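import Mathlib.RingTheory.IsTensorProduct
import Mathlib.RingTheory.Kaehler.Basic
import Groth.Prelude.Def_PP16

/-! Principal parts commute with base change: the module-level statement. -/

set_option autoImplicit false
universe u

open scoped TensorProduct

namespace Groth.Agent.PrinDiff

variable (n : ℕ) (A B A' B' : Type u) [CommRing A] [CommRing B] [Algebra A B]
  [CommRing A'] [CommRing B'] [Algebra A' B'] [Algebra A A'] [Algebra B B'] [Algebra A B']
  [IsScalarTower A A' B'] [IsScalarTower A B B'] [Algebra.IsPushout A A' B B']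

local notation "hB" => (Algebra.IsPushout.out (R := A) (S := A') (R' := B) (S' := B'))

include A in
theorem mul_tensorMap_induction {P : B' ⊗[A'] B' → Prop} (h0 : P 0) (hadd : ∀ x y, P x → P y → P (x + y))
    (hgen : ∀ (c : B') (b : B), P (c ⊗ₜ algebraMap B B' b)) : ∀ r, P r := by
  intro r
  induction r using TensorProduct.induction_on with
  | zero => exact h0
  | add x y hx hy => exact hadd x y hx hy
  | tmul c s =>
    revert c
    refine IsBaseChange.inductionOn hB s (fun s => ∀ c, P (c ⊗ₜ s)) (fun c => ?_) (fun b c => hgen c b) ?_ ?_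
    · rw [TensorProduct.tmul_zero]; exact h0
    · intro a' s hs c; rw [← TensorProduct.smul_tmul]; exact hs _
    · intro x y hx hy c; rw [TensorProduct.tmul_add]; exact hadd _ _ (hx c) (hy c)

theorem map_ideal_tensorMap :
    (KaehlerDifferential.ideal A B).map (PP16.tensorMap A B A' B') = KaehlerDifferential.ideal A' B' := by
  refine le_antisymm (PP16.ideal_map_tensorMap_le A B A' B') ?_
  rw [← KaehlerDifferential.span_range_eq_ideal, Ideal.span_le]
  rintro _ ⟨s, rfl⟩
  refine IsBaseChange.inductionOn hB s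
    (fun s => (1 : B') ⊗ₜ[A'] s - s ⊗ₜ[A'] (1 : B') ∈ Ideal.map (PP16.tensorMap A B A' B') (KaehlerDifferential.ideal A B))
    ?_ (fun b => ?_) (fun a' s hs => ?_) fun x y hx hy => ?_
  · simp
  · have h := Ideal.mem_map_of_mem (PP16.tensorMap A B A' B')
      (KaehlerDifferential.one_smul_sub_smul_one_mem_ideal A (S := B) b)
    rw [map_sub, PP16.tensorMap_tmul, PP16.tensorMap_tmul, map_one] at h
    exact h
  · have h := Submodule.smul_mem _ (algebraMap A' (B' ⊗[A'] B') a') hs
    convert h using 1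
    rw [algebraMap_smul, smul_sub, ← TensorProduct.tmul_smul, TensorProduct.smul_tmul']
  · convert add_mem hx hy using 1
    rw [TensorProduct.tmul_add, TensorProduct.add_tmul]; abel

variable {A B A' B'}
variable {M : Type u} [AddCommGroup M] [Module B M] {M' : Type u} [AddCommGroup M'] [Module B' M']

theorem bijective_baseChange (d : B → M) (d' : B' → M') (ψ : B ⊗[A] B →+ M) (ψ' : B' ⊗[A'] B' →+ M')
    (hψs : Function.Surjective ψ) (hψk : ψ.ker = (KaehlerDifferential.ideal A B ^ (n + 1)).toAddSubgroup)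
    (hψd : ∀ a b, ψ (a ⊗ₜ b) = a • d b)
    (hψs' : Function.Surjective ψ') (hψk' : ψ'.ker = (KaehlerDifferential.ideal A' B' ^ (n + 1)).toAddSubgroup)
    (hψd' : ∀ a b, ψ' (a ⊗ₜ b) = a • d' b)
    (Φ : B' ⊗[B] M →ₗ[B'] M') (hΦ : ∀ b, Φ (1 ⊗ₜ d b) = d' (algebraMap B B' b)) :
    Function.Bijective Φ := by
  classical
  have hψl : ∀ (c : B) (t : B ⊗[A] B), ψ (c • t) = c • ψ t := by
    intro c t
    induction t using TensorProduct.induction_on with
    | zero => simp
    | add x y hx hy => simp only [smul_add, map_add, hx, hy]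
    | tmul a b => rw [TensorProduct.smul_tmul', hψd, hψd, smul_eq_mul, mul_smul]
  have hψl' : ∀ (c : B') (t : B' ⊗[A'] B'), ψ' (c • t) = c • ψ' t := by
    intro c t
    induction t using TensorProduct.induction_on with
    | zero => simp
    | add x y hx hy => simp only [smul_add, map_add, hx, hy]
    | tmul a b => rw [TensorProduct.smul_tmul', hψd', hψd', smul_eq_mul, mul_smul]
  have hΦψ : ∀ t, Φ (1 ⊗ₜ ψ t) = ψ' (PP16.tensorMap A B A' B' t) := by
    intro t
    induction t using TensorProduct.induction_on with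
    | zero => simp
    | add x y hx hy => simp only [TensorProduct.tmul_add, map_add, hx, hy]
    | tmul a b =>
      rw [hψd, PP16.tensorMap_tmul, hψd', TensorProduct.tmul_smul,
        ← algebraMap_smul B' a ((1 : B') ⊗ₜ[B] d b), map_smul, hΦ]
  have hrep : ∀ z : B' ⊗[B] M, ∃ t : B' ⊗[A'] B', ψ' t = Φ z ∧
      ∀ Θ : B' ⊗[A'] B' →ₗ[B'] B' ⊗[B] M,
        (∀ y, Θ (PP16.tensorMap A B A' B' y) = 1 ⊗ₜ ψ y) → Θ t = z := by
    intro z
    induction z using TensorProduct.induction_on with
    | zero => exact ⟨0, by simp, fun Θ _ => map_zero Θ⟩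
    | add x y hx hy =>
      obtain ⟨t, ht, ht'⟩ := hx
      obtain ⟨s, hs, hs'⟩ := hy
      exact ⟨t + s, by rw [map_add, map_add, ht, hs], fun Θ h => by rw [map_add, ht' Θ h, hs' Θ h]⟩
    | tmul c m =>
      obtain ⟨y, rfl⟩ := hψs m
      refine ⟨c • PP16.tensorMap A B A' B' y, ?_, fun Θ h => ?_⟩
      · rw [hψl', ← hΦψ, ← map_smul, TensorProduct.smul_tmul', smul_eq_mul, mul_one]
      · rw [map_smul, h, TensorProduct.smul_tmul', smul_eq_mul, mul_one]
  -- the inverse on the level of the tensor square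
  let h1 : B →ₗ[A] B' ⊗[B] M :=
    { toFun := fun b => 1 ⊗ₜ ψ (1 ⊗ₜ b)
      map_add' := fun x y => by rw [TensorProduct.tmul_add, map_add, TensorProduct.tmul_add]
      map_smul' := fun a b => by
        rw [RingHom.id_apply, TensorProduct.tmul_smul, ← algebraMap_smul B a ((1 : B) ⊗ₜ[A] b), hψl,
          TensorProduct.tmul_smul, algebraMap_smul] }
  let h2 : B' →ₗ[A'] B' ⊗[B] M := (Algebra.IsPushout.out (R := A) (S := A') (R' := B) (S' := B')).lift h1
  let Θ : B' ⊗[A'] B' →ₗ[B'] B' ⊗[B] M := h2.liftBaseChange B'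
  have hΘι : ∀ (c : B') (b : B), Θ (c ⊗ₜ algebraMap B B' b) = c ⊗ₜ ψ (1 ⊗ₜ b) := by
    intro c b
    rw [LinearMap.liftBaseChange_tmul]
    rw [show h2 (algebraMap B B' b) = h1 b from
      (Algebra.IsPushout.out (R := A) (S := A') (R' := B) (S' := B')).lift_eq h1 b]
    show c • ((1 : B') ⊗ₜ[B] ψ (1 ⊗ₜ b)) = _
    rw [TensorProduct.smul_tmul', smul_eq_mul, mul_one]
  have hΘmap : ∀ y, Θ (PP16.tensorMap A B A' B' y) = 1 ⊗ₜ ψ y := by
    intro y
    induction y using TensorProduct.induction_on with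
    | zero => simp
    | add x y hx hy => simp only [map_add, TensorProduct.tmul_add, hx, hy]
    | tmul a b =>
      rw [PP16.tensorMap_tmul, hΘι, hψd, hψd, one_smul, ← TensorProduct.smul_tmul, Algebra.smul_def, mul_one]
  have hΘker : ∀ t ∈ KaehlerDifferential.ideal A' B' ^ (n + 1), Θ t = 0 := by
    rw [← map_ideal_tensorMap A B A' B', ← Ideal.map_pow]
    intro t ht
    have hmul : ∀ r, Θ (r * t) = 0 := by
      refine Submodule.span_induction (p := fun t _ => ∀ r, Θ (r * t) = 0) ?_ ?_ ?_ ?_ ht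
      · rintro _ ⟨x, hx, rfl⟩
        refine mul_tensorMap_induction A B A' B' (P := fun r => Θ (r * _) = 0) (by rw [zero_mul, map_zero])
          (fun p q hp hq => by rw [add_mul, map_add, hp, hq, add_zero]) fun c b => ?_
        have e : (c ⊗ₜ[A'] algebraMap B B' b) * PP16.tensorMap A B A' B' x =
            c • PP16.tensorMap A B A' B' ((1 ⊗ₜ b) * x) := by
          rw [map_mul, PP16.tensorMap_tmul, map_one, ← smul_mul_assoc, TensorProduct.smul_tmul', smul_eq_mul,
            mul_one]
        rw [e, map_smul, hΘmap,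
          show ψ ((1 ⊗ₜ b) * x) = 0 from AddMonoidHom.mem_ker.mp (hψk.ge (Ideal.mul_mem_left _ _ hx)),
          TensorProduct.tmul_zero, smul_zero]
      · intro r; rw [mul_zero, map_zero]
      · intro x y _ _ hx hy r; rw [mul_add, map_add, hx, hy, add_zero]
      · intro a x _ hx r; rw [smul_eq_mul, ← mul_assoc, hx]
    simpa using hmul 1
  refine ⟨(injective_iff_map_eq_zero _).mpr fun z hz => ?_, fun m' => ?_⟩
  · obtain ⟨t, ht, ht'⟩ := hrep z
    rw [← ht' Θ hΘmap]
    exact hΘker t (hψk'.le (ht.trans hz))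
  · obtain ⟨t, rfl⟩ := hψs' m'
    refine mul_tensorMap_induction A B A' B' (P := fun t => ∃ z, Φ z = ψ' t) ⟨0, by simp⟩ ?_ ?_ t
    · rintro x y ⟨z, hz⟩ ⟨w, hw⟩
      exact ⟨z + w, by rw [map_add, map_add, hz, hw]⟩
    · intro c b
      refine ⟨c ⊗ₜ ψ (1 ⊗ₜ b), ?_⟩
      rw [hψd, one_smul, show (c ⊗ₜ[B] d b) = c • ((1 : B') ⊗ₜ[B] d b) from by
        rw [TensorProduct.smul_tmul', smul_eq_mul, mul_one], map_smul, hΦ, hψd']

end Groth.Agent.PrinDiff
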