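import Groth.Agent.PrinDiff.Germ

/-! The commutator criterion for differential operators between modules. -/

set_option autoImplicit false
set_option linter.style.haveILetI false
universe u

open CategoryTheory CategoryTheory.Limits AlgebraicGeometry Opposite TopologicalSpace
open scoped TensorProduct

namespace Groth.Agent.PrinDiff

open Groth.Agent.ModStalk

variable {X S : Scheme.{u}} (f : X ⟶ S) (n : ℕ) (F : X.Modules)

/-- The pullback of `F` to the neighbourhood along the second projection. -/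
noncomputable abbrev N : (PrinPart.nbhd f n).Modules := (Scheme.Modules.pullback (PrinPart.pr2 f n)).obj F

/-- A section of the principal parts as a section on the neighbourhood. -/
def toN {U : X.Opens} (s : Γ(PrinPart.PMod f n F, U)) : Γ(N f n F, PrinPart.pr1 f n ⁻¹ᵁ U) := s

/-- The germ of a section of the principal parts on the neighbourhood. -/
noncomputable def gz (z : PrinPart.nbhd f n) {U : X.Opens} (hy : PrinPart.pr2 f n z ∈ U)
    (s : Γ(PrinPart.PMod f n F, U)) : (N f n F).presheaf.stalk z :=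
  (N f n F).presheaf.germ _ z (mem_pr1 f n z hy) (toN f n F s)

theorem gz_add (z : PrinPart.nbhd f n) {U : X.Opens} (hy : PrinPart.pr2 f n z ∈ U)
    (s t : Γ(PrinPart.PMod f n F, U)) : gz f n F z hy (s + t) = gz f n F z hy s + gz f n F z hy t :=
  map_add ((N f n F).presheaf.germ _ z (mem_pr1 f n z hy)).hom _ _

theorem gz_zero (z : PrinPart.nbhd f n) {U : X.Opens} (hy : PrinPart.pr2 f n z ∈ U) :
    gz f n F z hy (0 : Γ(PrinPart.PMod f n F, U)) = 0 :=
  map_zero ((N f n F).presheaf.germ _ z (mem_pr1 f n z hy)).hom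

theorem gz_res (z : PrinPart.nbhd f n) {U U' : X.Opens} (h : U' ≤ U) (hy : PrinPart.pr2 f n z ∈ U')
    (s : Γ(PrinPart.PMod f n F, U)) :
    gz f n F z hy ((PrinPart.PMod f n F).presheaf.map (homOfLE h).op s) = gz f n F z (h hy) s :=
  TopCat.Presheaf.germ_res_apply (N f n F).presheaf
    (homOfLE (show PrinPart.pr1 f n ⁻¹ᵁ U' ≤ PrinPart.pr1 f n ⁻¹ᵁ U from (PrinPart.pr1 f n).preimage_mono h)) z
    (mem_pr1 f n z hy) (toN f n F s)

theorem gz_smul (z : PrinPart.nbhd f n) {U : X.Opens} (hy : PrinPart.pr2 f n z ∈ U) (a : Γ(X, U))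
    (s : Γ(PrinPart.PMod f n F, U)) :
    gz f n F z hy (a • s) = e1 f n z (X.presheaf.germ U _ hy a) • gz f n F z hy s := by
  rw [e1_germ]
  exact Groth.Agent.ModStalk.germ_smul (N f n F) z (mem_pr1 f n z hy) ((PrinPart.pr1 f n).app U a) (toN f n F s)

theorem gz_dP (z : PrinPart.nbhd f n) {U : X.Opens} (hy : PrinPart.pr2 f n z ∈ U) (t : Γ(F, U)) :
    gz f n F z hy (PrinPart.dP f n F U t) = pullGerm (PrinPart.pr2 f n) F z (F.presheaf.germ U _ hy t) :=
  germ_pullSec (PrinPart.pr2 f n) F (PrinPart.preimage_pr1 f n U).le z (mem_pr1 f n z hy) t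

theorem stalkN_induction (z : PrinPart.nbhd f n) {P : (N f n F).presheaf.stalk z → Prop} (h0 : P 0)
    (hadd : ∀ a b, P a → P b → P (a + b))
    (hgen : ∀ (U : X.Opens) (hy : PrinPart.pr2 f n z ∈ U) (a : Γ(X, U)) (t : Γ(F, U)),
      P (gz f n F z hy (a • PrinPart.dP f n F U t)))
    (m : (N f n F).presheaf.stalk z) : P m := by
  have hgen' : ∀ (c : (PrinPart.nbhd f n).presheaf.stalk z) (v : F.presheaf.stalk (PrinPart.pr2 f n z)),
      P (c • pullGerm (PrinPart.pr2 f n) F z v) := by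
    intro c
    induction c using stalk_induction f n z with
    | h0 => intro v; rw [zero_smul]; exact h0
    | hadd a b ha hb => intro v; rw [add_smul]; exact hadd _ _ (ha v) (hb v)
    | hgen a b =>
      intro v
      rw [mul_smul, ← pullGerm_smul]
      generalize b • v = w
      obtain ⟨U₁, hy₁, a, rfl⟩ := X.presheaf.exists_germ_eq (x := PrinPart.pr2 f n z) a
      obtain ⟨U₂, hy₂, t, rfl⟩ := F.presheaf.exists_germ_eq (x := PrinPart.pr2 f n z) w
      have hy : PrinPart.pr2 f n z ∈ U₁ ⊓ U₂ := ⟨hy₁, hy₂⟩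
      rw [← X.presheaf.germ_res_apply (homOfLE (inf_le_left : U₁ ⊓ U₂ ≤ U₁)) _ hy a,
        ← F.presheaf.germ_res_apply (homOfLE (inf_le_right : U₁ ⊓ U₂ ≤ U₂)) _ hy t,
        ← gz_dP f n F z hy, ← gz_smul]
      exact hgen _ hy _ _
  have hm : m ∈ Submodule.span ((PrinPart.nbhd f n).presheaf.stalk z) (Set.range (pullGerm (PrinPart.pr2 f n) F z)) := by
    rw [span_pullGerm]; exact Submodule.mem_top
  rw [Finsupp.mem_span_range_iff_exists_finsupp] at hm
  obtain ⟨c, rfl⟩ := hm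
  exact Finset.sum_induction _ P hadd h0 fun v _ => hgen' (c v) v

theorem exists_eq_nhd (z : PrinPart.nbhd f n) {U U' : X.Opens} (hy : PrinPart.pr2 f n z ∈ U)
    (hy' : PrinPart.pr2 f n z ∈ U') (s : Γ(PrinPart.PMod f n F, U)) (s' : Γ(PrinPart.PMod f n F, U'))
    (h : gz f n F z hy s = gz f n F z hy' s') :
    ∃ (V : X.Opens) (hV : V ≤ U) (hV' : V ≤ U'), PrinPart.pr2 f n z ∈ V ∧
      (PrinPart.PMod f n F).presheaf.map (homOfLE hV).op s = (PrinPart.PMod f n F).presheaf.map (homOfLE hV').op s' := by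
  obtain ⟨W, hzW, i, j, hW⟩ := (N f n F).presheaf.germ_eq z (mem_pr1 f n z hy) (mem_pr1 f n z hy') _ _ h
  obtain ⟨V, hyV, hVW⟩ := exists_nhd_le f n z hzW
  refine ⟨V ⊓ (U ⊓ U'), inf_le_right.trans inf_le_left, inf_le_right.trans inf_le_right, ⟨hyV, hy, hy'⟩, ?_⟩
  have hle : PrinPart.pr1 f n ⁻¹ᵁ (V ⊓ (U ⊓ U')) ≤ W := fun w hw => hVW hw.1
  have := congrArg ((N f n F).presheaf.map (homOfLE hle).op) hW
  rw [show i = homOfLE i.le from rfl, show j = homOfLE j.le from rfl, res_res, res_res] at this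
  exact this

theorem exists_gz (z : PrinPart.nbhd f n) (m : (N f n F).presheaf.stalk z) :
    ∃ (U : X.Opens) (hy : PrinPart.pr2 f n z ∈ U) (s : Γ(PrinPart.PMod f n F, U)), gz f n F z hy s = m := by
  induction m using stalkN_induction f n F z with
  | h0 => exact ⟨⊤, trivial, 0, gz_zero f n F z _⟩
  | hadd a b ha hb =>
    obtain ⟨U, hy, s, rfl⟩ := ha
    obtain ⟨U', hy', s', rfl⟩ := hb
    refine ⟨U ⊓ U', ⟨hy, hy'⟩, (PrinPart.PMod f n F).presheaf.map (homOfLE inf_le_left).op s +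
      (PrinPart.PMod f n F).presheaf.map (homOfLE inf_le_right).op s', ?_⟩
    exact (gz_add f n F z _ _ _).trans (congrArg₂ (· + ·) (gz_res f n F z _ _ s) (gz_res f n F z _ _ s'))
  | hgen U hy a t => exact ⟨U, hy, _, rfl⟩

theorem hom_ext_dP (G : X.Modules) (a b : PrinPart.PMod f n F ⟶ G)
    (h : ∀ (U : X.Opens) (t : Γ(F, U)), a.app U (PrinPart.dP f n F U t) = b.app U (PrinPart.dP f n F U t)) :
    a = b := by
  refine Scheme.Modules.hom_ext _ _ fun U => ?_
  ext s
  refine eq_of_germ_eq G _ _ fun y hy => ?_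
  obtain ⟨z, rfl⟩ : ∃ z, PrinPart.pr2 f n z = y :=
    ⟨PrinPart.toNbhd f n y, by rw [← Scheme.Hom.comp_apply, PrinPart.toNbhd_pr2]; rfl⟩
  have key : ∀ m : (N f n F).presheaf.stalk z, ∀ (U : X.Opens) (hy : PrinPart.pr2 f n z ∈ U)
      (s : Γ(PrinPart.PMod f n F, U)), gz f n F z hy s = m →
        G.presheaf.germ U _ hy (a.app U s) = G.presheaf.germ U _ hy (b.app U s) := by
    intro m
    induction m using stalkN_induction f n F z with
    | h0 =>
      intro U hy s hs
      obtain ⟨V, hV, hV', hyV, e⟩ := exists_eq_nhd f n F z hy hy s 0 (hs.trans (gz_zero f n F z hy).symm)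
      rw [map_zero] at e
      rw [← G.presheaf.germ_res_apply (homOfLE hV) _ hyV (a.app U s),
        ← G.presheaf.germ_res_apply (homOfLE hV) _ hyV (b.app U s), ← app_res, ← app_res, e, map_zero, map_zero, map_zero, map_zero]
    | hadd m₁ m₂ h₁ h₂ =>
      intro U hy s hs
      obtain ⟨U₁, hy₁, s₁, rfl⟩ := exists_gz f n F z m₁
      obtain ⟨U₂, hy₂, s₂, rfl⟩ := exists_gz f n F z m₂
      obtain ⟨V, hV, hV', hyV, e⟩ := exists_eq_nhd f n F z hy (show _ ∈ U₁ ⊓ U₂ from ⟨hy₁, hy₂⟩) s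
        ((PrinPart.PMod f n F).presheaf.map (homOfLE inf_le_left).op s₁ +
          (PrinPart.PMod f n F).presheaf.map (homOfLE inf_le_right).op s₂) (hs.trans ((gz_add f n F z _ _ _).trans (congrArg₂ (· + ·) (gz_res f n F z _ _ s₁) (gz_res f n F z _ _ s₂))).symm)
      rw [map_add, res_res, res_res] at e
      rw [← G.presheaf.germ_res_apply (homOfLE hV) _ hyV (a.app U s),
        ← G.presheaf.germ_res_apply (homOfLE hV) _ hyV (b.app U s), ← app_res, ← app_res, e, map_add, map_add,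
        map_add, map_add, h₁ V hyV _ (gz_res f n F z _ hyV s₁), h₂ V hyV _ (gz_res f n F z _ hyV s₂)]
    | hgen U' hy' r t =>
      intro U hy s hs
      obtain ⟨V, hV, hV', hyV, e⟩ := exists_eq_nhd f n F z hy hy' s _ hs
      rw [← G.presheaf.germ_res_apply (homOfLE hV) _ hyV (a.app U s),
        ← G.presheaf.germ_res_apply (homOfLE hV) _ hyV (b.app U s), ← app_res, ← app_res, e, app_res, app_res,
        Scheme.Modules.Hom.app_smul, Scheme.Modules.Hom.app_smul, h]
  exact key _ U hy s rfl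

section Criterion

variable (G : X.Modules) (D : F.presheaf ⟶ G.presheaf)

/-- `D` is linear over the base. -/
def BaseLinear : Prop :=
  ∀ (V : S.Opens) (s : Γ(S, V)) (U : X.Opens) (hU : U ≤ f ⁻¹ᵁ V) (t : Γ(F, U)),
    D.app (op U) (X.presheaf.map (homOfLE hU).op (f.app V s) • t) =
      X.presheaf.map (homOfLE hU).op (f.app V s) • D.app (op U) t

/-- All iterated commutators of length `k` vanish. -/
def CommVanish (k : ℕ) : Prop :=
  ∀ (U : X.Opens) (a : Fin k → Γ(X, U)) (t : Γ(F, U)),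
    (∑ H : Finset (Fin k), ((-1 : ℤ) ^ H.card) • ((∏ i ∈ H, a i) • D.app (op U) ((∏ i ∈ Hᶜ, a i) • t))) = 0

variable {F G}

theorem nat_res {U V : X.Opens} (h : V ≤ U) (t : Γ(F, U)) :
    D.app (op V) (F.presheaf.map (homOfLE h).op t) = G.presheaf.map (homOfLE h).op (D.app (op U) t) :=
  ConcreteCategory.congr_hom (D.naturality (homOfLE h).op) t

theorem commVanish_iff (k : ℕ) : CommVanish F G D k ↔
    ∀ U : X.Opens, IsOrd Γ(X, U) k (fun t : Γ(F, U) => D.app (op U) t) := by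
  refine forall_congr' fun U => ?_
  rw [isOrd_iff]
  exact forall₂_congr fun a t => by rw [altSum_univ]

theorem prod_pr_eq_zero (U : X.Opens) (a : Fin (n + 1) → Γ(X, U)) :
    ∏ i, ((PrinPart.pr2 f n).appLE U (PrinPart.pr1 f n ⁻¹ᵁ U) (PrinPart.preimage_pr1 f n U).le (a i) -
      (PrinPart.pr1 f n).app U (a i)) = 0 := by
  refine TopCat.Presheaf.section_ext (PrinPart.nbhd f n).sheaf _ _ _ fun z hz => ?_
  have hy : PrinPart.pr2 f n z ∈ U := (PrinPart.preimage_pr1 f n U).le hz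
  obtain ⟨V, U₀, hV, hU₀, hy₀, hle, hU₀U⟩ := exists_affine_pair f _ hy
  letI := (f.appLE V U₀ hle).hom.toAlgebra
  obtain ⟨-, σ, -, hker, hσ⟩ := exists_nbhdSectionsMap f n hV hU₀ hle
  let a' : Fin (n + 1) → Γ(X, U₀) := fun i => X.presheaf.map (homOfLE hU₀U).op (a i)
  have h1 : σ (∏ i, ((1 : Γ(X, U₀)) ⊗ₜ a' i - a' i ⊗ₜ (1 : Γ(X, U₀)))) = 0 := by
    rw [← RingHom.mem_ker, hker]
    have := Ideal.prod_mem_prod (s := Finset.univ) (I := fun _ : Fin (n + 1) => KaehlerDifferential.ideal Γ(S, V) Γ(X, U₀))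
      fun i _ => KaehlerDifferential.one_smul_sub_smul_one_mem_ideal Γ(S, V) (a' i)
    rwa [Finset.prod_const, Finset.card_fin] at this
  have h2 := congrArg ((PrinPart.nbhd f n).presheaf.germ _ z (mem_pr1 f n z hy₀)) h1
  rw [map_prod, map_prod, map_zero] at h2
  refine Eq.trans (map_prod ((PrinPart.nbhd f n).presheaf.germ _ z hz).hom _ _) ?_
  refine Eq.trans ?_ (h2.trans (map_zero ((PrinPart.nbhd f n).presheaf.germ _ z hz).hom).symm)
  refine Finset.prod_congr rfl fun i _ => ?_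
  rw [map_sub, map_sub, map_sub, hσ, hσ, map_one, map_one, one_mul, mul_one, ← e1_germ f n z hy₀,
    ← e2_germ f n z hy₀, ← e1_germ f n z hy, ← e2_germ f n z hy]
  simp only [a', TopCat.Presheaf.germ_res_apply]

theorem dP_smul (U : X.Opens) (b : Γ(X, U)) (t : Γ(F, U)) :
    toN f n F (PrinPart.dP f n F U (b • t)) =
      (PrinPart.pr2 f n).appLE U (PrinPart.pr1 f n ⁻¹ᵁ U) (PrinPart.preimage_pr1 f n U).le b •
        toN f n F (PrinPart.dP f n F U t) :=
  pullSec_smul (PrinPart.pr2 f n) F (PrinPart.preimage_pr1 f n U).le b t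

theorem sum_dP_eq_zero (U : X.Opens) (a : Fin (n + 1) → Γ(X, U)) (t : Γ(F, U)) :
    (∑ H : Finset (Fin (n + 1)), ((-1 : ℤ) ^ H.card) • ((∏ i ∈ H, a i) •
      PrinPart.dP f n F U ((∏ i ∈ Hᶜ, a i) • t))) = 0 := by
  have h := congrArg (fun c => c • toN f n F (PrinPart.dP f n F U t)) (prod_pr_eq_zero f n U a)
  simp only [zero_smul] at h
  show (∑ H : Finset (Fin (n + 1)), ((-1 : ℤ) ^ H.card) • (((PrinPart.pr1 f n).app U (∏ i ∈ H, a i)) •
      toN f n F (PrinPart.dP f n F U ((∏ i ∈ Hᶜ, a i) • t)))) = (0 : Γ(N f n F, PrinPart.pr1 f n ⁻¹ᵁ U))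
  refine Eq.trans ?_ h
  rw [show ∀ (p q : Fin (n + 1) → Γ(PrinPart.nbhd f n, PrinPart.pr1 f n ⁻¹ᵁ U)),
    ∏ i, (q i - p i) = ∏ i, (-(p i) + q i) from fun p q => Finset.prod_congr rfl fun i _ => (neg_add_eq_sub _ _).symm]
  rw [Finset.prod_add, Finset.powerset_univ, Finset.sum_smul]
  refine Finset.sum_congr rfl fun H _ => ?_
  rw [dP_smul, map_prod, map_prod, smul_smul, Finset.prod_neg, ← Finset.compl_eq_univ_sdiff,
    ← Int.cast_smul_eq_zsmul Γ(PrinPart.nbhd f n, PrinPart.pr1 f n ⁻¹ᵁ U), smul_smul]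
  congr 1
  push_cast
  ring

theorem baseLinear_of_isDiffOp (h : PrinPart.IsDiffOpLE f F G n D) : BaseLinear f F G D := by
  obtain ⟨u, hu⟩ := h
  intro V s U hU t
  rw [hu, hu, ← u.app_smul]
  congr 1
  show toN f n F (PrinPart.dP f n F U (X.presheaf.map (homOfLE hU).op (f.app V s) • t)) =
    (PrinPart.pr1 f n).app U (X.presheaf.map (homOfLE hU).op (f.app V s)) • toN f n F (PrinPart.dP f n F U t)
  rw [dP_smul]
  congr 1
  rw [Scheme.Hom.app_eq_appLE (PrinPart.pr1 f n)]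
  show ((f.app V ≫ X.presheaf.map (homOfLE hU).op) ≫ (PrinPart.pr2 f n).appLE U _ _) s =
    ((f.app V ≫ X.presheaf.map (homOfLE hU).op) ≫ (PrinPart.pr1 f n).appLE U _ _) s
  rw [show f.app V ≫ X.presheaf.map (homOfLE hU).op = f.appLE V U hU from rfl, Scheme.Hom.appLE_comp_appLE,
    Scheme.Hom.appLE_comp_appLE]
  exact congr($(OmegaSh.appLE_congr_hom (PrinPart.pr1_comp f n).symm _ _) s)

theorem commVanish_of_isDiffOp (h : PrinPart.IsDiffOpLE f F G n D) : CommVanish F G D (n + 1) := by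
  obtain ⟨u, hu⟩ := h
  intro U a t
  rw [← map_zero (u.app U).hom, ← sum_dP_eq_zero f n U a t, map_sum]
  refine Finset.sum_congr rfl fun H _ => ?_
  rw [map_zsmul, Scheme.Modules.Hom.app_smul, hu]

theorem exists_Phi (z : PrinPart.nbhd f n) (hlin : BaseLinear f F G D) (hc : CommVanish F G D (n + 1)) :
    ∃ Φ : (N f n F).presheaf.stalk z →+ G.presheaf.stalk (PrinPart.pr2 f n z),
      ∀ (U : X.Opens) (hy : PrinPart.pr2 f n z ∈ U) (a : Γ(X, U)) (t : Γ(F, U)),
        Φ (gz f n F z hy (a • PrinPart.dP f n F U t)) = G.presheaf.germ U _ hy (a • D.app (op U) t) := by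
  letI := (f.stalkMap (PrinPart.pr2 f n z)).hom.toAlgebra
  let y := PrinPart.pr2 f n z
  let Dz : F.presheaf.stalk y →+ G.presheaf.stalk y := ((TopCat.Presheaf.stalkFunctor AddCommGrpCat y).map D).hom
  have hDz : ∀ (U : X.Opens) (hy : y ∈ U) (t : Γ(F, U)),
      Dz (F.presheaf.germ U y hy t) = G.presheaf.germ U y hy (D.app (op U) t) := fun U hy t =>
    TopCat.Presheaf.stalkFunctor_map_germ_apply U y hy D t
  have hAlin : ∀ (r : S.presheaf.stalk (f y)) (m : F.presheaf.stalk y),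
      Dz (algebraMap (S.presheaf.stalk (f y)) (X.presheaf.stalk y) r • m) =
        algebraMap (S.presheaf.stalk (f y)) (X.presheaf.stalk y) r • Dz m := by
    intro r m
    obtain ⟨V, hV, s, rfl⟩ := S.presheaf.exists_germ_eq r
    obtain ⟨U, hU, t, rfl⟩ := F.presheaf.exists_germ_eq m
    have hy : y ∈ U ⊓ f ⁻¹ᵁ V := ⟨hU, hV⟩
    show Dz (f.stalkMap y _ • _) = f.stalkMap y _ • _
    rw [Scheme.Hom.germ_stalkMap_apply,
      ← X.presheaf.germ_res_apply (homOfLE (inf_le_right : U ⊓ f ⁻¹ᵁ V ≤ f ⁻¹ᵁ V)) y hy,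
      ← F.presheaf.germ_res_apply (homOfLE (inf_le_left : U ⊓ f ⁻¹ᵁ V ≤ U)) y hy, ← germ_smul, hDz, hlin, germ_smul,
      hDz]
  have hsum : ∀ (a : Fin (n + 1) → X.presheaf.stalk y) (m : F.presheaf.stalk y),
      (∑ H : Finset (Fin (n + 1)), ((-1 : ℤ) ^ H.card) • ((∏ i ∈ H, a i) • Dz ((∏ i ∈ Hᶜ, a i) • m))) = 0 := by
    intro a m
    choose V hV r hr using fun i => X.presheaf.exists_germ_eq (a i)
    obtain ⟨U, hU, t, rfl⟩ := F.presheaf.exists_germ_eq m
    let U' : X.Opens := U ⊓ Finset.univ.inf V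
    have hy : y ∈ U' := ⟨hU, Finset.inf_induction (p := fun V : X.Opens => y ∈ V) trivial
      (fun _ h₁ _ h₂ => ⟨h₁, h₂⟩) fun i _ => hV i⟩
    have hle : ∀ i, U' ≤ V i := fun i => inf_le_right.trans (Finset.inf_le (Finset.mem_univ i))
    let r' : Fin (n + 1) → Γ(X, U') := fun i => X.presheaf.map (homOfLE (hle i)).op (r i)
    have hr' : ∀ i, a i = X.presheaf.germ U' y hy (r' i) := fun i => by
      rw [TopCat.Presheaf.germ_res_apply, hr]
    have key := congrArg (G.presheaf.germ U' y hy) (hc U' r' (F.presheaf.map (homOfLE inf_le_left).op t))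
    rw [map_zero, map_sum] at key
    refine Eq.trans (Finset.sum_congr rfl fun H _ => ?_) key
    simp only [map_zsmul, germ_smul, map_prod, ← hDz, TopCat.Presheaf.germ_res_apply, hr']
  obtain ⟨L, hL, hLr⟩ := exists_factor n Dz hAlin hsum
  obtain ⟨ρ, hρ1, hρ2⟩ := exists_rho f n z
  obtain ⟨e, he⟩ := exists_pullStalk_equiv (PrinPart.pr2 f n) F z
  letI := ((PrinPart.pr2 f n).stalkMap z).hom.toAlgebra
  let T : (PrinPart.nbhd f n).presheaf.stalk z ⊗[X.presheaf.stalk y] F.presheaf.stalk y →+ G.presheaf.stalk y :=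
    TensorProduct.liftAddHom (L.comp ρ.toAddMonoidHom) fun b c m => by
      show L (ρ (b • c)) m = L (ρ c) (b • m)
      rw [Algebra.smul_def, map_mul, mul_comm,
        show ρ (algebraMap (X.presheaf.stalk y) ((PrinPart.nbhd f n).presheaf.stalk z) b) = _ from hρ2 b, hLr]
  refine ⟨T.comp e.toAddEquiv.toAddMonoidHom, fun U hy a t => ?_⟩
  rw [gz_smul, gz_dP]
  show T (e (e1 f n z (X.presheaf.germ U y hy a) • pullGerm (PrinPart.pr2 f n) F z (F.presheaf.germ U y hy t))) = _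
  rw [map_smul, he, TensorProduct.smul_tmul', smul_eq_mul, mul_one]
  show L (ρ (e1 f n z (X.presheaf.germ U y hy a))) (F.presheaf.germ U y hy t) = _
  rw [hρ1, hL, one_smul, hDz, germ_smul]

theorem isDiffOp_of_commVanish (hlin : BaseLinear f F G D) (hc : CommVanish F G D (n + 1)) :
    PrinPart.IsDiffOpLE f F G n D := by
  choose Φ hΦ using fun z => exists_Phi f n D z hlin hc
  have hΦsmul : ∀ (z : PrinPart.nbhd f n) (r : X.presheaf.stalk (PrinPart.pr2 f n z))
      (m : (N f n F).presheaf.stalk z), Φ z (e1 f n z r • m) = r • Φ z m := by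
    intro z r m
    induction m using stalkN_induction f n F z with
    | h0 => simp only [smul_zero, map_zero]
    | hadd a b ha hb => simp only [smul_add, map_add, ha, hb]
    | hgen U hy a t =>
      obtain ⟨U', hy', r, rfl⟩ := X.presheaf.exists_germ_eq (x := PrinPart.pr2 f n z) r
      have hy'' : PrinPart.pr2 f n z ∈ U' ⊓ U := ⟨hy', hy⟩
      rw [hΦ, ← X.presheaf.germ_res_apply (homOfLE (inf_le_left : U' ⊓ U ≤ U')) _ hy'' r,
        ← gz_res f n F z (inf_le_right : U' ⊓ U ≤ U) hy'', ← gz_smul, Scheme.Modules.map_smul, ← PrinPart.dP_map,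
        smul_smul, hΦ, mul_smul, germ_smul, nat_res, ← Scheme.Modules.map_smul, TopCat.Presheaf.germ_res_apply]
      congr 1
      exact TopCat.Presheaf.germ_res_apply G.presheaf (homOfLE (inf_le_right : U' ⊓ U ≤ U)) _ hy'' _
  let Compat : ∀ U : X.Opens, Γ(PrinPart.PMod f n F, U) → Γ(G, U) → Prop := fun U s g =>
    ∀ (z : PrinPart.nbhd f n) (hy : PrinPart.pr2 f n z ∈ U), G.presheaf.germ U _ hy g = Φ z (gz f n F z hy s)
  have huniq : ∀ U s g g', Compat U s g → Compat U s g' → g = g' := by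
    intro U s g g' h h'
    refine eq_of_germ_eq G _ _ fun y hy => ?_
    obtain ⟨z, rfl⟩ : ∃ z, PrinPart.pr2 f n z = y :=
      ⟨PrinPart.toNbhd f n y, by rw [← Scheme.Hom.comp_apply, PrinPart.toNbhd_pr2]; rfl⟩
    exact (h z hy).trans (h' z hy).symm
  have hres : ∀ {U V : X.Opens} (h : V ≤ U) s g, Compat U s g →
      Compat V ((PrinPart.PMod f n F).presheaf.map (homOfLE h).op s) (G.presheaf.map (homOfLE h).op g) := by
    intro U V h s g hg z hy
    rw [TopCat.Presheaf.germ_res_apply, gz_res]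
    exact hg z (h hy)
  have hloc : ∀ (z : PrinPart.nbhd f n) (m : (N f n F).presheaf.stalk z),
      ∃ (U : X.Opens) (hy : PrinPart.pr2 f n z ∈ U) (s : Γ(PrinPart.PMod f n F, U)) (g : Γ(G, U)),
        gz f n F z hy s = m ∧ Compat U s g := by
    intro z m
    induction m using stalkN_induction f n F z with
    | h0 => exact ⟨⊤, trivial, 0, 0, gz_zero f n F z _, fun z hy => by rw [map_zero, gz_zero, map_zero]⟩
    | hadd a b ha hb =>
      obtain ⟨U, hy, s, g, rfl, hg⟩ := ha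
      obtain ⟨U', hy', s', g', rfl, hg'⟩ := hb
      refine ⟨U ⊓ U', ⟨hy, hy'⟩, (PrinPart.PMod f n F).presheaf.map (homOfLE inf_le_left).op s +
        (PrinPart.PMod f n F).presheaf.map (homOfLE inf_le_right).op s',
        G.presheaf.map (homOfLE inf_le_left).op g + G.presheaf.map (homOfLE inf_le_right).op g', ?_, fun w hw => ?_⟩
      rotate_left 1
      · exact (map_add (G.presheaf.germ _ _ hw).hom _ _).trans ((congrArg₂ (· + ·)
          (hres (inf_le_left : U ⊓ U' ≤ U) s g hg w hw) (hres (inf_le_right : U ⊓ U' ≤ U') s' g' hg' w hw)).trans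
          ((map_add (Φ w) _ _).symm.trans (congrArg (Φ w) (gz_add f n F w hw _ _).symm)))
      · exact (gz_add f n F z _ _ _).trans (congrArg₂ (· + ·) (gz_res f n F z _ _ s) (gz_res f n F z _ _ s'))
    | hgen U hy a t => exact ⟨U, hy, _, a • D.app (op U) t, rfl, fun w hw => (hΦ w U hw a t).symm⟩
  have hex : ∀ U s, ∃ g, Compat U s g := by
    intro U s
    have hpt : ∀ y : U, ∃ (W : X.Opens) (h : W ≤ U) (g : Γ(G, W)),
        y.1 ∈ W ∧ Compat W ((PrinPart.PMod f n F).presheaf.map (homOfLE h).op s) g := by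
      rintro ⟨y, hy⟩
      obtain ⟨z, rfl⟩ : ∃ z, PrinPart.pr2 f n z = y :=
        ⟨PrinPart.toNbhd f n y, by rw [← Scheme.Hom.comp_apply, PrinPart.toNbhd_pr2]; rfl⟩
      obtain ⟨U₁, hy₁, s₁, g₁, hs₁, hg₁⟩ := hloc z (gz f n F z hy s)
      obtain ⟨W, hW, hW', hyW, e⟩ := exists_eq_nhd f n F z hy hy₁ s s₁ hs₁.symm
      exact ⟨W, hW, G.presheaf.map (homOfLE hW').op g₁, hyW, e ▸ hres hW' s₁ g₁ hg₁⟩
    choose W hWU g hyW hg using hpt
    have hcompat : TopCat.Presheaf.IsCompatible G.presheaf W g := fun i j => by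
      refine huniq _ ((PrinPart.PMod f n F).presheaf.map (homOfLE (inf_le_left.trans (hWU i))).op s) _ _ ?_ ?_
      · have := hres (inf_le_left : W i ⊓ W j ≤ W i) _ _ (hg i)
        rwa [res_res] at this
      · have := hres (inf_le_right : W i ⊓ W j ≤ W j) _ _ (hg j)
        rwa [res_res] at this
    obtain ⟨g₀, hg₀, -⟩ := TopCat.Sheaf.existsUnique_gluing' (⟨G.presheaf, G.isSheaf⟩ : TopCat.Sheaf AddCommGrpCat.{u} X) W U
      (fun i => homOfLE (hWU i)) (fun y hy => Opens.mem_iSup.mpr ⟨⟨y, hy⟩, hyW ⟨y, hy⟩⟩) g hcompat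
    refine ⟨g₀, fun z hy => ?_⟩
    have h1 := hg ⟨_, hy⟩ z (hyW ⟨_, hy⟩)
    rw [gz_res, ← show G.presheaf.map (homOfLE (hWU ⟨_, hy⟩)).op g₀ = g ⟨_, hy⟩ from hg₀ ⟨_, hy⟩,
      TopCat.Presheaf.germ_res_apply] at h1
    exact h1
  choose g hg using hex
  let u : PrinPart.PMod f n F ⟶ G :=
    ⟨PresheafOfModules.homMk
      { app := fun U => AddCommGrpCat.ofHom (AddMonoidHom.mk' (g U.unop) fun s s' =>
          huniq U.unop (show Γ(PrinPart.PMod f n F, U.unop) from s + s') _ _ (hg _ _) fun z hy =>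
            (map_add (G.presheaf.germ _ _ hy).hom _ _).trans ((congrArg₂ (· + ·) (hg _ s z hy) (hg _ s' z hy)).trans
              ((map_add (Φ z) _ _).symm.trans (congrArg (Φ z) (gz_add f n F z hy _ _).symm))))
        naturality := fun U V i => by
          ext s
          exact huniq V.unop _ _ _ (hg _ _) (hres i.unop.le s _ (hg _ s)) }
      fun U r s => huniq U.unop
        ((show Γ(X, U.unop) from r) • (show Γ(PrinPart.PMod f n F, U.unop) from s) : Γ(PrinPart.PMod f n F, U.unop))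
        _ _ (hg _ _) fun z hy => (germ_smul G _ hy (show Γ(X, U.unop) from r) (g U.unop s)).trans
          (((congrArg _ (hg _ s z hy)).trans (hΦsmul z _ _).symm).trans
            (congrArg (Φ z) (gz_smul f n F z hy (show Γ(X, U.unop) from r) s).symm))⟩
  refine ⟨u, fun U t => huniq U (PrinPart.dP f n F U t) _ _ (fun z hy => ?_) (hg U _)⟩
  have := hΦ z U hy 1 t
  rw [one_smul, one_smul] at this
  exact this.symm

theorem isDiffOp_iff : PrinPart.IsDiffOpLE f F G n D ↔ BaseLinear f F G D ∧ CommVanish F G D (n + 1) :=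
  ⟨fun h => ⟨baseLinear_of_isDiffOp f n D h, commVanish_of_isDiffOp f n D h⟩,
    fun h => isDiffOp_of_commVanish f n D h.1 h.2⟩

end Criterion

end Groth.Agent.PrinDiff
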