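import Groth.Agent.PrinDiff.Sections

/-! Germs on the neighbourhood of the diagonal. -/

set_option autoImplicit false
set_option linter.style.haveILetI false
universe u

open CategoryTheory CategoryTheory.Limits AlgebraicGeometry Opposite TopologicalSpace
open scoped TensorProduct

namespace Groth.Agent.PrinDiff

open Groth.Agent.ModStalk

variable {X S : Scheme.{u}} (f : X ⟶ S) (n : ℕ)

theorem toNbhd_pr2_apply (z : PrinPart.nbhd f n) : PrinPart.toNbhd f n (PrinPart.pr2 f n z) = z := by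
  obtain ⟨x, rfl⟩ := PrinPart.toInfNbhd_surjective (PrinPart.diagCl f) n z
  rw [← Scheme.Hom.comp_apply (PrinPart.toNbhd f n), PrinPart.toNbhd_pr2]
  rfl

theorem mem_pr1 {U : X.Opens} (z : PrinPart.nbhd f n) (hy : PrinPart.pr2 f n z ∈ U) :
    z ∈ PrinPart.pr1 f n ⁻¹ᵁ U := (PrinPart.preimage_pr1 f n U).ge hy

theorem exists_nhd_le {W : (PrinPart.nbhd f n).Opens} (z : PrinPart.nbhd f n) (hz : z ∈ W) :
    ∃ U : X.Opens, PrinPart.pr2 f n z ∈ U ∧ PrinPart.pr1 f n ⁻¹ᵁ U ≤ W := by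
  refine ⟨PrinPart.toNbhd f n ⁻¹ᵁ W, ?_, fun w hw => ?_⟩
  · show PrinPart.toNbhd f n (PrinPart.pr2 f n z) ∈ W
    rwa [toNbhd_pr2_apply]
  · have h : PrinPart.toNbhd f n (PrinPart.pr1 f n w) ∈ W := hw
    rwa [PrinPart.pr1_apply, toNbhd_pr2_apply] at h

theorem exists_affine_pair (y : X) {U : X.Opens} (hy : y ∈ U) :
    ∃ (V : S.Opens) (U₀ : X.Opens), IsAffineOpen V ∧ IsAffineOpen U₀ ∧ y ∈ U₀ ∧ U₀ ≤ f ⁻¹ᵁ V ∧ U₀ ≤ U := by
  obtain ⟨_, ⟨V, hV, rfl⟩, hyV, -⟩ := S.isBasis_affineOpens.exists_subset_of_mem_open (Set.mem_univ (f y)) isOpen_univ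
  obtain ⟨_, ⟨U₀, hU₀, rfl⟩, hyU₀, hle⟩ := X.isBasis_affineOpens.exists_subset_of_mem_open
    (show y ∈ ((f ⁻¹ᵁ V ⊓ U : X.Opens) : Set X) from ⟨hyV, hy⟩) (f ⁻¹ᵁ V ⊓ U).2
  exact ⟨V, U₀, hV, hU₀, hyU₀, fun w hw => (hle hw).1, fun w hw => (hle hw).2⟩

/-- The left structure on the local ring of the neighbourhood. -/
noncomputable def e1 (z : PrinPart.nbhd f n) :
    X.presheaf.stalk (PrinPart.pr2 f n z) →+* (PrinPart.nbhd f n).presheaf.stalk z :=
  (X.presheaf.stalkSpecializes (specializes_of_eq (PrinPart.pr1_apply f n z)) ≫ (PrinPart.pr1 f n).stalkMap z).hom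

theorem e1_germ {U : X.Opens} (z : PrinPart.nbhd f n) (hy : PrinPart.pr2 f n z ∈ U) (a : Γ(X, U)) :
    e1 f n z (X.presheaf.germ U _ hy a) =
      (PrinPart.nbhd f n).presheaf.germ _ z (mem_pr1 f n z hy) ((PrinPart.pr1 f n).app U a) := by
  show (PrinPart.pr1 f n).stalkMap z (X.presheaf.stalkSpecializes _ (X.presheaf.germ U _ hy a)) = _
  rw [TopCat.Presheaf.germ_stalkSpecializes_apply, Scheme.Hom.germ_stalkMap_apply]

theorem e2_germ {U : X.Opens} (z : PrinPart.nbhd f n) (hy : PrinPart.pr2 f n z ∈ U) (b : Γ(X, U)) :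
    (PrinPart.pr2 f n).stalkMap z (X.presheaf.germ U _ hy b) =
      (PrinPart.nbhd f n).presheaf.germ _ z (mem_pr1 f n z hy)
        ((PrinPart.pr2 f n).appLE U (PrinPart.pr1 f n ⁻¹ᵁ U) (PrinPart.preimage_pr1 f n U).le b) := by
  rw [Scheme.Hom.germ_stalkMap_apply]
  exact (TopCat.Presheaf.germ_res_apply _ (homOfLE (PrinPart.preimage_pr1 f n U).le) z (mem_pr1 f n z hy) _).symm

theorem stalk_induction (z : PrinPart.nbhd f n) {P : (PrinPart.nbhd f n).presheaf.stalk z → Prop} (h0 : P 0)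
    (hadd : ∀ a b, P a → P b → P (a + b))
    (hgen : ∀ a b, P (e1 f n z a * (PrinPart.pr2 f n).stalkMap z b)) (c : (PrinPart.nbhd f n).presheaf.stalk z) :
    P c := by
  obtain ⟨W, hzW, s, rfl⟩ := (PrinPart.nbhd f n).presheaf.exists_germ_eq c
  obtain ⟨U, hyU, hUW⟩ := exists_nhd_le f n z hzW
  obtain ⟨V, U₀, hV, hU₀, hy, hle, hU₀U⟩ := exists_affine_pair f _ hyU
  have hle' : PrinPart.pr1 f n ⁻¹ᵁ U₀ ≤ W := le_trans (fun w hw => hU₀U hw) hUW
  letI := (f.appLE V U₀ hle).hom.toAlgebra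
  obtain ⟨-, σ, hσ, -, hσtmul⟩ := exists_nbhdSectionsMap f n hV hU₀ hle
  rw [← TopCat.Presheaf.germ_res_apply _ (homOfLE hle') z (mem_pr1 f n z hy)]
  obtain ⟨w, hw⟩ := hσ ((PrinPart.nbhd f n).presheaf.map (homOfLE hle').op s)
  rw [← hw]
  clear hw
  induction w using TensorProduct.induction_on with
  | zero => rw [map_zero, map_zero]; exact h0
  | add x x' hx hx' => rw [map_add, map_add]; exact hadd _ _ hx hx'
  | tmul a b =>
    rw [hσtmul, map_mul, ← e1_germ f n z hy, ← e2_germ f n z hy]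
    exact hgen _ _

theorem appLE_retraction {Y Z : Scheme.{u}} (t : Y ⟶ Z) (p : Z ⟶ Y) (hp : t ≫ p = 𝟙 Y) {U : Y.Opens}
    {T : Z.Opens} (h1 : T ≤ p ⁻¹ᵁ U) (h2 : U ≤ t ⁻¹ᵁ T) (c : Γ(Y, U)) :
    t.appLE T U h2 (p.appLE U T h1 c) = c := by
  have key : ∀ (q : Y ⟶ Y) (e : U ≤ q ⁻¹ᵁ U), q = 𝟙 Y → q.appLE U U e = 𝟙 _ := by
    intro q e hq
    subst hq
    rw [Scheme.Hom.appLE, show Y.presheaf.map (homOfLE e).op = 𝟙 _ from Y.presheaf.map_id _]
    exact Category.comp_id _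
  rw [← ConcreteCategory.comp_apply, Scheme.Hom.appLE_comp_appLE, key _ _ hp]
  rfl

theorem exists_tau (m : ℕ) (A₀ B₀ A B : Type u) [CommRing A₀] [CommRing B₀] [Algebra A₀ B₀] [CommRing A]
    [CommRing B] [Algebra A B] [Algebra A₀ A] [Algebra B₀ B] [Algebra A₀ B] [IsScalarTower A₀ A B]
    [IsScalarTower A₀ B₀ B] :
    ∃ (τ : (B₀ ⊗[A₀] B₀) →+* PP16.P m A B) (π : PP16.P m A B →+* B),
      KaehlerDifferential.ideal A₀ B₀ ^ (m + 1) ≤ RingHom.ker τ ∧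
      (∀ q, IsUnit (π q) → IsUnit q) ∧
      (∀ a b, π (τ (a ⊗ₜ b)) = algebraMap B₀ B a * algebraMap B₀ B b) ∧
      (∀ a b, τ (a ⊗ₜ b) = Ideal.Quotient.mk _ (algebraMap B₀ B a ⊗ₜ algebraMap B₀ B b)) := by
  let τ : (B₀ ⊗[A₀] B₀) →+* PP16.P m A B :=
    (Ideal.Quotient.mk _).comp (PP16.tensorMap A₀ B₀ A B).toRingHom
  let π : PP16.P m A B →+* B := Ideal.Quotient.lift _ (Algebra.TensorProduct.lmul' (S := B) A).toRingHom
    fun x hx => Ideal.pow_le_self (Nat.succ_ne_zero m) hx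
  refine ⟨τ, π, fun x hx => ?_, fun q hq => ?_, fun a b => ?_, fun a b => ?_⟩
  · rw [RingHom.mem_ker]
    refine Ideal.Quotient.eq_zero_iff_mem.mpr ?_
    have h := Ideal.pow_right_mono (n := m + 1) (PP16.ideal_map_tensorMap_le A₀ B₀ A B)
    rw [← Ideal.map_pow] at h
    exact h (Ideal.mem_map_of_mem _ hx)
  · obtain ⟨x, rfl⟩ := Ideal.Quotient.mk_surjective q
    obtain ⟨v, hv⟩ := hq.exists_right_inv
    have hmem : x * (v ⊗ₜ[A] (1 : B)) - 1 ∈ KaehlerDifferential.ideal A B := by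
      show Algebra.TensorProduct.lmul' (S := B) A (x * (v ⊗ₜ[A] (1 : B)) - 1) = 0
      rw [map_sub, map_one, map_mul, Algebra.TensorProduct.lmul'_apply_tmul, mul_one, sub_eq_zero]
      exact hv
    have hnil : IsNilpotent (Ideal.Quotient.mk (KaehlerDifferential.ideal A B ^ (m + 1))
        (x * (v ⊗ₜ[A] (1 : B)) - 1)) := by
      refine ⟨m + 1, ?_⟩
      rw [← map_pow, Ideal.Quotient.eq_zero_iff_mem]
      exact Ideal.pow_mem_pow hmem _
    have hu := hnil.isUnit_add_one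
    rw [map_sub, map_one, sub_add_cancel, map_mul] at hu
    exact isUnit_of_mul_isUnit_left hu
  · show Algebra.TensorProduct.lmul' (S := B) A (PP16.tensorMap A₀ B₀ A B (a ⊗ₜ b)) = _
    rw [PP16.tensorMap_tmul, Algebra.TensorProduct.lmul'_apply_tmul]
  · show Ideal.Quotient.mk _ (PP16.tensorMap A₀ B₀ A B (a ⊗ₜ b)) = _
    rw [PP16.tensorMap_tmul]

theorem exists_rho (z : PrinPart.nbhd f n) :
    letI := (f.stalkMap (PrinPart.pr2 f n z)).hom.toAlgebra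
    ∃ ρ : (PrinPart.nbhd f n).presheaf.stalk z →+*
        PP16.P n (S.presheaf.stalk (f (PrinPart.pr2 f n z))) (X.presheaf.stalk (PrinPart.pr2 f n z)),
      (∀ a, ρ (e1 f n z a) = Ideal.Quotient.mk _ (a ⊗ₜ 1)) ∧
      (∀ b, ρ ((PrinPart.pr2 f n).stalkMap z b) = Ideal.Quotient.mk _ (1 ⊗ₜ b)) := by
  let y := PrinPart.pr2 f n z
  let A := S.presheaf.stalk (f y)
  let B := X.presheaf.stalk y
  letI : Algebra A B := (f.stalkMap y).hom.toAlgebra
  obtain ⟨V, U₀, hV, hU₀, hy, hle, -⟩ := exists_affine_pair f y (U := ⊤) trivial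
  letI : Algebra Γ(S, V) Γ(X, U₀) := (f.appLE V U₀ hle).hom.toAlgebra
  obtain ⟨hT, σ, hσ, hker, hσtmul⟩ := exists_nbhdSectionsMap f n hV hU₀ hle
  letI : Algebra Γ(X, U₀) B := (X.presheaf.germ U₀ y hy).hom.toAlgebra
  letI : Algebra Γ(S, V) A := (S.presheaf.germ V (f y) (hle hy)).hom.toAlgebra
  letI : Algebra Γ(S, V) B := ((algebraMap A B).comp (algebraMap Γ(S, V) A)).toAlgebra
  haveI : IsScalarTower Γ(S, V) A B := IsScalarTower.of_algebraMap_eq fun _ => rfl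
  haveI : IsScalarTower Γ(S, V) Γ(X, U₀) B := IsScalarTower.of_algebraMap_eq fun c => by
    show f.stalkMap y (S.presheaf.germ V (f y) (hle hy) c) = X.presheaf.germ U₀ y hy (f.appLE V U₀ hle c)
    refine (Scheme.Hom.germ_stalkMap_apply f V y (hle hy) c).trans ?_
    exact (TopCat.Presheaf.germ_res_apply _ (homOfLE hle) y hy _).symm
  haveI : IsLocalization.AtPrime B (hU₀.primeIdealOf ⟨y, hy⟩).asIdeal := hU₀.isLocalization_stalk ⟨y, hy⟩
  obtain ⟨τ, π, hτ0, hlift, hπτ, hτtmul⟩ := exists_tau n Γ(S, V) Γ(X, U₀) A B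
  have hτker : RingHom.ker σ ≤ RingHom.ker τ := hker.le.trans hτ0
  let ρ₀ := RingHom.liftOfSurjective σ hσ ⟨τ, hτker⟩
  have hρ₀ : ∀ w, ρ₀ (σ w) = τ w := fun w => RingHom.liftOfSurjective_comp_apply σ hσ ⟨τ, hτker⟩ w
  have hπ : ∀ w, π (τ w) = X.presheaf.germ U₀ y hy ((PrinPart.toNbhd f n).appLE (PrinPart.pr1 f n ⁻¹ᵁ U₀) U₀
      (by rw [← Scheme.Hom.comp_preimage, PrinPart.toNbhd_pr1]; exact le_rfl) (σ w)) := by
    intro w
    induction w using TensorProduct.induction_on with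
    | zero => simp only [map_zero]
    | add x x' hx hx' => simp only [map_add, hx, hx']
    | tmul a b =>
      rw [hπτ, hσtmul, map_mul, map_mul,
        Scheme.Hom.app_eq_appLE, appLE_retraction _ _ (PrinPart.toNbhd_pr1 f n), appLE_retraction _ _ (PrinPart.toNbhd_pr2 f n)]
      rfl
  letI : Algebra Γ(PrinPart.nbhd f n, PrinPart.pr1 f n ⁻¹ᵁ U₀) ((PrinPart.nbhd f n).presheaf.stalk z) :=
    ((PrinPart.nbhd f n).presheaf.germ _ z (mem_pr1 f n z hy)).hom.toAlgebra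
  haveI : IsLocalization.AtPrime ((PrinPart.nbhd f n).presheaf.stalk z) (hT.primeIdealOf ⟨z, mem_pr1 f n z hy⟩).asIdeal :=
    hT.isLocalization_stalk ⟨z, mem_pr1 f n z hy⟩
  have hunit : ∀ s : (hT.primeIdealOf ⟨z, mem_pr1 f n z hy⟩).asIdeal.primeCompl, IsUnit (ρ₀ s.1) := by
    rintro ⟨s, hs⟩
    have hu : IsUnit ((PrinPart.nbhd f n).presheaf.germ _ z (mem_pr1 f n z hy) s) :=
      IsLocalization.map_units ((PrinPart.nbhd f n).presheaf.stalk z)
        (⟨s, hs⟩ : (hT.primeIdealOf ⟨z, mem_pr1 f n z hy⟩).asIdeal.primeCompl)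
    obtain ⟨w, rfl⟩ := hσ s
    refine hlift _ ?_
    rw [hρ₀, hπ]
    have hy' : PrinPart.toNbhd f n y ∈ PrinPart.pr1 f n ⁻¹ᵁ U₀ := by
      rw [toNbhd_pr2_apply]; exact mem_pr1 f n z hy
    have hu' : IsUnit ((PrinPart.nbhd f n).presheaf.germ _ (PrinPart.toNbhd f n y) hy' (σ w)) := by
      have hz : PrinPart.toNbhd f n y ∈ (PrinPart.nbhd f n).basicOpen (σ w) := by
        rw [toNbhd_pr2_apply]
        exact (Scheme.mem_basicOpen _ _ _ _).mpr hu
      exact (Scheme.mem_basicOpen _ _ _ hy').mp hz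
    convert hu'.map ((PrinPart.toNbhd f n).stalkMap y).hom using 1
    refine Eq.trans ?_ (Scheme.Hom.germ_stalkMap_apply (PrinPart.toNbhd f n) _ y hy' (σ w)).symm
    exact TopCat.Presheaf.germ_res_apply _ (homOfLE _) y hy _
  let ρ : (PrinPart.nbhd f n).presheaf.stalk z →+* PP16.P n A B := IsLocalization.lift hunit
  have hρ : ∀ w, ρ ((PrinPart.nbhd f n).presheaf.germ _ z (mem_pr1 f n z hy) (σ w)) = τ w := fun w =>
    (IsLocalization.lift_eq hunit (σ w)).trans (hρ₀ w)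
  refine ⟨ρ, fun a => ?_, fun b => ?_⟩
  · refine RingHom.congr_fun (IsLocalization.ringHom_ext (hU₀.primeIdealOf ⟨y, hy⟩).asIdeal.primeCompl
      (j := ρ.comp (e1 f n z)) (k := (Ideal.Quotient.mk _).comp
        (Algebra.TensorProduct.includeLeftRingHom : B →+* B ⊗[A] B)) (RingHom.ext fun c => ?_)) a
    show ρ (e1 f n z (X.presheaf.germ U₀ y hy c)) = Ideal.Quotient.mk _ (X.presheaf.germ U₀ y hy c ⊗ₜ 1)
    rw [e1_germ, ← mul_one ((PrinPart.pr1 f n).app U₀ c),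
      ← map_one ((PrinPart.pr2 f n).appLE U₀ (PrinPart.pr1 f n ⁻¹ᵁ U₀) (PrinPart.preimage_pr1 f n U₀).le).hom,
      ← hσtmul, hρ]
    rw [hτtmul, map_one]
    rfl
  · refine RingHom.congr_fun (IsLocalization.ringHom_ext (hU₀.primeIdealOf ⟨y, hy⟩).asIdeal.primeCompl
      (j := ρ.comp ((PrinPart.pr2 f n).stalkMap z).hom) (k := (Ideal.Quotient.mk _).comp
        (Algebra.TensorProduct.includeRight : B →ₐ[A] B ⊗[A] B).toRingHom) (RingHom.ext fun c => ?_)) b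
    show ρ ((PrinPart.pr2 f n).stalkMap z (X.presheaf.germ U₀ y hy c)) = Ideal.Quotient.mk _ (1 ⊗ₜ X.presheaf.germ U₀ y hy c)
    rw [e2_germ, ← one_mul ((PrinPart.pr2 f n).appLE U₀ _ _ c), ← map_one ((PrinPart.pr1 f n).app U₀).hom,
      ← hσtmul, hρ]
    rw [hτtmul, map_one]
    rfl

end Groth.Agent.PrinDiff
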