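import Mathlib.RingTheory.IsTensorProduct
import Mathlib.RingTheory.Flat.Equalizer
import Mathlib.LinearAlgebra.TensorProduct.RightExactness
import Mathlib.RingTheory.TensorProduct.Quotient

/-! Base change of the graded pieces of an ideal: the module-level statements. -/

set_option autoImplicit false
universe u

open scoped TensorProduct

namespace Groth.Agent.PrinDiff

section Gi

variable (R R' : Type u) [CommRing R] [CommRing R'] [Algebra R R'] {M : Type u} [AddCommGroup M] [Module R M]

/-- `r' ⊗ m ↦ r' * ι m`. -/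
noncomputable def gI (ι : M →ₗ[R] R) : R' ⊗[R] M →ₗ[R'] R' :=
  ((Algebra.linearMap R R').comp ι).liftBaseChange R'

theorem gI_tmul (ι : M →ₗ[R] R) (r' : R') (m : M) : gI R R' ι (r' ⊗ₜ m) = r' * algebraMap R R' (ι m) := rfl

theorem range_gI (ι : M →ₗ[R] R) :
    LinearMap.range (gI R R' ι) = Ideal.map (algebraMap R R') (LinearMap.range ι) := by
  refine le_antisymm ?_ (Ideal.map_le_iff_le_comap.mpr ?_)
  · rintro _ ⟨z, rfl⟩
    induction z using TensorProduct.induction_on with
    | zero => rw [map_zero]; exact zero_mem _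
    | add x y hx hy => rw [map_add]; exact add_mem hx hy
    | tmul r' m => exact Ideal.mul_mem_left _ _ (Ideal.mem_map_of_mem _ ⟨m, rfl⟩)
  · rintro _ ⟨m, rfl⟩
    exact ⟨1 ⊗ₜ m, by rw [gI_tmul, one_mul]⟩

theorem gI_injective_of_flat [Module.Flat R R'] {ι : M →ₗ[R] R} (hι : Function.Injective ι) :
    Function.Injective (gI R R' ι) := by
  have h : ∀ z, gI R R' ι z = TensorProduct.rid R R' (ι.lTensor R' z) := by
    intro z
    induction z using TensorProduct.induction_on with
    | zero => simp
    | add x y hx hy => simp only [map_add, hx, hy]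
    | tmul r' m => rw [gI_tmul, LinearMap.lTensor_tmul, TensorProduct.rid_tmul, Algebra.smul_def, mul_comm]
  intro x y hxy
  rw [h, h] at hxy
  exact Module.Flat.lTensor_preserves_injective_linearMap ι hι ((TensorProduct.rid R R').injective hxy)

variable {M' : Type u} [AddCommGroup M'] [Module R' M']

theorem exists_lift (ι : M →ₗ[R] R) (ι' : M' →ₗ[R'] R') (hι' : Function.Injective ι')
    (hr : LinearMap.range ι' = Ideal.map (algebraMap R R') (LinearMap.range ι)) :
    ∃ g : R' ⊗[R] M →ₗ[R'] M', Function.Surjective g ∧ (∀ m, ι' (g (1 ⊗ₜ m)) = algebraMap R R' (ι m)) ∧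
      (Function.Injective (gI R R' ι) → Function.Bijective g) := by
  let e := LinearEquiv.ofInjective ι' hι'
  have hmem : ∀ z, gI R R' ι z ∈ LinearMap.range ι' := fun z => by
    rw [hr, ← range_gI]; exact ⟨z, rfl⟩
  let g : R' ⊗[R] M →ₗ[R'] M' := e.symm.toLinearMap.comp ((gI R R' ι).codRestrict _ hmem)
  have hg : ∀ z, ι' (g z) = gI R R' ι z := fun z => by
    show ι' (e.symm ⟨_, hmem z⟩) = _
    rw [← LinearEquiv.ofInjective_apply ι' (h := hι') (e.symm ⟨_, hmem z⟩)]
    exact congrArg Subtype.val (e.apply_symm_apply _)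
  have hs : Function.Surjective g := fun m' => by
    obtain ⟨z, hz⟩ : ι' m' ∈ LinearMap.range (gI R R' ι) := by rw [range_gI, ← hr]; exact ⟨m', rfl⟩
    exact ⟨z, hι' ((hg z).trans hz)⟩
  exact ⟨g, hs, fun m => by rw [hg, gI_tmul, one_mul],
    fun h => ⟨fun x y hxy => h (by rw [← hg, ← hg, hxy]), hs⟩⟩

end Gi

section Main

variable (R C R' C' : Type u) [CommRing R] [CommRing C] [CommRing R'] [CommRing C'] [Algebra R C] [Algebra R R']
  [Algebra C C'] [Algebra R' C'] [Algebra R C'] [IsScalarTower R C C'] [IsScalarTower R R' C']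
  {M : Type u} [AddCommGroup M] [Module R M] {M' : Type u} [AddCommGroup M'] [Module R' M']

theorem baseChange_gr (g : R' ⊗[R] M →ₗ[R'] M') (L : C' ⊗[C] (C ⊗[R] M) →ₗ[C'] C' ⊗[R'] M')
    (hL : ∀ m : M, L (1 ⊗ₜ (1 ⊗ₜ m)) = 1 ⊗ₜ g (1 ⊗ₜ m)) :
    (Function.Surjective g → Function.Surjective L) ∧ (Function.Bijective g → Function.Bijective L) := by
  let e : C' ⊗[C] (C ⊗[R] M) ≃ₗ[C'] C' ⊗[R'] (R' ⊗[R] M) :=
    (TensorProduct.AlgebraTensorModule.cancelBaseChange R C C' C' M).trans
      (TensorProduct.AlgebraTensorModule.cancelBaseChange R R' C' C' M).symm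
  have hLe : L = (g.baseChange C').comp e.toLinearMap := by
    ext m
    simp [hL, e]
  rw [hLe]
  refine ⟨fun hs => ?_, fun hb => ?_⟩
  · exact (LinearMap.lTensor_surjective C' hs).comp e.surjective
  · exact (TensorProduct.AlgebraTensorModule.congr (LinearEquiv.refl C' C') (LinearEquiv.ofBijective g hb)).bijective.comp
      e.bijective

end Main

section Split

variable (C R C' R' : Type u) [CommRing C] [CommRing R] [CommRing C'] [CommRing R'] [Algebra C R] [Algebra R C]
  [IsScalarTower C R C] [Algebra C C'] [Algebra R R'] [Algebra C' R'] [Algebra C R'] [IsScalarTower C R R']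
  [IsScalarTower C C' R'] [Algebra.IsPushout C C' R R']

theorem lTensor_pow_injective (n : ℕ)
    (hflat : ∀ k < n, Module.Flat C (C ⊗[R] ↥(RingHom.ker (algebraMap R C) ^ k))) :
    Function.Injective (LinearMap.lTensor C'
      (((RingHom.ker (algebraMap R C) ^ n : Ideal R).subtype).restrictScalars C)) := by
  induction n with
  | zero =>
    have hb : Function.Bijective (((RingHom.ker (algebraMap R C) ^ 0 : Ideal R).subtype).restrictScalars C) :=
      ⟨Subtype.val_injective, fun x => ⟨⟨x, by rw [pow_zero, Ideal.one_eq_top]; trivial⟩, rfl⟩⟩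
    exact ((LinearEquiv.ofBijective _ hb).lTensor C').injective
  | succ k ih =>
    let I := RingHom.ker (algebraMap R C)
    let inc : ↥(I ^ (k + 1)) →ₗ[C] ↥(I ^ k) :=
      (Submodule.inclusion (Ideal.pow_le_pow_right (Nat.le_succ k))).restrictScalars C
    let π : ↥(I ^ k) →ₗ[C] C ⊗[R] ↥(I ^ k) :=
      ((TensorProduct.mk R C ↥(I ^ k)) 1).restrictScalars C
    have hsurjC : Function.Surjective (Algebra.linearMap R C) := fun c => ⟨algebraMap C R c, by
      rw [Algebra.linearMap_apply, ← IsScalarTower.algebraMap_apply]; rfl⟩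
    have hπs : Function.Surjective π := by
      intro z
      induction z using TensorProduct.induction_on with
      | zero => exact ⟨0, map_zero π⟩
      | add x y hx hy =>
        obtain ⟨a, rfl⟩ := hx
        obtain ⟨b, rfl⟩ := hy
        exact ⟨a + b, map_add π a b⟩
      | tmul c m =>
        obtain ⟨r, rfl⟩ := hsurjC c
        refine ⟨r • m, ?_⟩
        show (1 : C) ⊗ₜ[R] (r • m) = _
        rw [← TensorProduct.smul_tmul, Algebra.smul_def, mul_one, Algebra.linearMap_apply]
    have hex : Function.Exact inc π := by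
      intro m
      constructor
      · intro hm
        have hexI : Function.Exact (Submodule.subtype (I : Submodule R R)) (Algebra.linearMap R C) := fun b =>
          ⟨fun hb => ⟨⟨b, hb⟩, rfl⟩, fun ⟨t, ht⟩ => ht ▸ t.2⟩
        obtain ⟨t, ht⟩ := (rTensor_exact ↥(I ^ k) hexI hsurjC ((1 : R) ⊗ₜ[R] m)).mp (by
          rw [LinearMap.rTensor_tmul, Algebra.linearMap_apply, map_one]
          exact hm)
        have h2 : ((TensorProduct.lid R ↥(I ^ k) ((Submodule.subtype (I : Submodule R R)).rTensor _ t) :
            ↥(I ^ k)) : R) ∈ I ^ (k + 1) := by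
          clear ht
          induction t using TensorProduct.induction_on with
          | zero => simp
          | add v w hv hw => rw [map_add, map_add, Submodule.coe_add]; exact add_mem hv hw
          | tmul r m =>
            rw [LinearMap.rTensor_tmul, TensorProduct.lid_tmul, pow_succ']
            exact Ideal.mul_mem_mul r.2 m.2
        rw [ht, TensorProduct.lid_tmul, one_smul] at h2
        exact ⟨⟨m, h2⟩, Subtype.ext rfl⟩
      · rintro ⟨⟨x, hx⟩, rfl⟩
        have key : ∀ y ∈ I * I ^ k, ∃ hy' : y ∈ I ^ k, (1 : C) ⊗ₜ[R] (⟨y, hy'⟩ : ↥(I ^ k)) = 0 := by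
          intro y hy
          refine Submodule.mul_induction_on hy (fun a ha b hb => ⟨Ideal.mul_mem_left _ a hb, ?_⟩) ?_
          · rw [show (⟨a * b, Ideal.mul_mem_left _ a hb⟩ : ↥(I ^ k)) = a • ⟨b, hb⟩ from rfl,
              ← TensorProduct.smul_tmul, Algebra.smul_def, mul_one,
              show algebraMap R C a = 0 from ha, TensorProduct.zero_tmul]
          · rintro a b ⟨ha, ha0⟩ ⟨hb, hb0⟩
            refine ⟨add_mem ha hb, ?_⟩
            rw [show (⟨a + b, add_mem ha hb⟩ : ↥(I ^ k)) = ⟨a, ha⟩ + ⟨b, hb⟩ from rfl, TensorProduct.tmul_add, ha0,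
              hb0, add_zero]
        obtain ⟨_, h⟩ := key x (pow_succ' I k ▸ hx)
        exact h
    haveI := hflat k (Nat.lt_succ_self k)
    have h0 := @LinearMap.lTensor_injective_of_exact_of_flat C _ ↥(I ^ (k + 1)) _ _ ↥(I ^ k) (C ⊗[R] ↥(I ^ k)) _ _ _ _ _ π hπs inc (Submodule.inclusion_injective (Ideal.pow_le_pow_right (Nat.le_succ k))) hex C' _ _
    refine Eq.mp ?_ ((ih fun j hj => hflat j (Nat.lt_succ_of_lt hj)).comp
      h0)
    rw [← LinearMap.coe_comp, ← LinearMap.lTensor_comp]
    rfl

include C' in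
theorem gI_injective_of_split {M : Type u} [AddCommGroup M] [Module R M] (n : ℕ) {ι : M →ₗ[R] R}
    (hι : Function.Injective ι) (hr : LinearMap.range ι = RingHom.ker (algebraMap R C) ^ n)
    (hflat : ∀ k < n, Module.Flat C (C ⊗[R] ↥(RingHom.ker (algebraMap R C) ^ k))) :
    Function.Injective (gI R R' ι) := by
  let e : M ≃ₗ[R] ↥(RingHom.ker (algebraMap R C) ^ n) :=
    (LinearEquiv.ofInjective ι hι).trans (LinearEquiv.ofEq _ _ hr)
  letI : Module C M := Module.compHom M (algebraMap C R)
  haveI : IsScalarTower C R M := IsScalarTower.of_algebraMap_smul fun _ _ => rfl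
  let cb := Algebra.IsPushout.cancelBaseChange C C' R R' M
  let cR := Algebra.IsPushout.equiv C C' R R'
  have h : ∀ z, gI R R' ι (cb.symm z) =
      cR ((((RingHom.ker (algebraMap R C) ^ n : Ideal R).subtype).restrictScalars C).lTensor C'
        ((e.toLinearMap.restrictScalars C).lTensor C' z)) := by
    intro z
    induction z using TensorProduct.induction_on with
    | zero => simp
    | add x y hx hy => simp only [map_add, hx, hy]
    | tmul c m =>
      rw [Algebra.IsPushout.cancelBaseChange_symm_tmul, gI_tmul, LinearMap.lTensor_tmul, LinearMap.lTensor_tmul,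
        Algebra.IsPushout.equiv_tmul]
      rfl
  intro x y hxy
  rw [← cb.symm_apply_apply x, ← cb.symm_apply_apply y, h, h] at hxy
  exact cb.injective (((e.restrictScalars C).lTensor C').injective
    (lTensor_pow_injective C R C' n hflat (cR.injective hxy)))

end Split

end Groth.Agent.PrinDiff
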