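import Groth.Agent.PrinDiff.Germ
import Groth.Agent.S5959
import Mathlib.AlgebraicGeometry.Morphisms.Flat
import Mathlib.RingTheory.Flat.Localization

/-! The symmetry of the neighbourhood of the diagonal; flatness of the projections. -/

set_option autoImplicit false
set_option linter.style.haveILetI false
universe u

open CategoryTheory CategoryTheory.Limits AlgebraicGeometry Opposite TopologicalSpace

namespace Groth.Agent.PrinDiff

open Groth.Agent.ModStalk

theorem ker_pow_le {Y Z : Scheme.{u}} (i : Y ⟶ Z) [QuasiCompact i] (t : Z ⟶ Z) [IsAffineHom t] (ht : i ≫ t = i)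
    (n : ℕ) : i.ker ^ (n + 1) ≤ ((i.ker ^ (n + 1)).subschemeι ≫ t).ker := by
  intro U x hx
  rw [Scheme.Hom.ker_apply, RingHom.mem_ker]
  have hU := U.2.preimage t
  have hmap : i.ker.ideal U ≤ (i.ker.ideal ⟨t ⁻¹ᵁ U.1, hU⟩).comap (t.app U.1).hom := by
    intro y hy
    rw [Scheme.Hom.ker_apply, RingHom.mem_ker] at hy
    rw [Ideal.mem_comap, Scheme.Hom.ker_apply, RingHom.mem_ker]
    have h : (i ≫ t).app U.1 y = 0 := by
      have key : ∀ (q : Y ⟶ Z), q = i → q.app U.1 y = 0 := by rintro q rfl; exact hy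
      exact key _ ht
    rw [Scheme.Hom.comp_app] at h
    exact h
  have h2 : t.app U.1 x ∈ (i.ker ^ (n + 1)).ideal ⟨t ⁻¹ᵁ U.1, hU⟩ := by
    rw [Scheme.IdealSheafData.ideal_pow, Pi.pow_apply] at hx ⊢
    exact Ideal.le_comap_pow (t.app U.1).hom (n + 1) (Ideal.pow_right_mono hmap _ hx)
  rw [← Scheme.IdealSheafData.ker_subschemeι_app, RingHom.mem_ker] at h2
  rw [Scheme.Hom.comp_app]
  exact h2

theorem flat_sections_of_isFlat {X : Scheme.{u}} (M : X.Modules) [M.IsQuasicoherent] (hM : FlatMod.IsFlat M)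
    {U : X.Opens} (hU : IsAffineOpen U) : Module.Flat Γ(X, U) Γ(M, U) := by
  refine Module.flat_of_localized_maximal (R := Γ(X, U)) (M := Γ(M, U)) fun P hP => ?_
  obtain ⟨x, rfl⟩ := exists_point hU P
  letI := sectionModule M x
  letI : Algebra Γ(X, U) (X.presheaf.stalk x.1) := (X.presheaf.germ U x.1 x.2).hom.toAlgebra
  haveI : IsScalarTower Γ(X, U) (X.presheaf.stalk x.1) (M.presheaf.stalk x.1) := sectionTower M x
  haveI : IsLocalization.AtPrime (X.presheaf.stalk x.1) (hU.primeIdealOf x).asIdeal := hU.isLocalization_stalk x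
  haveI := isLocalizedModule_germ hU M x
  haveI : Module.Flat Γ(X, U) (X.presheaf.stalk x.1) :=
    IsLocalization.flat _ (hU.primeIdealOf x).asIdeal.primeCompl
  haveI : Module.Flat (X.presheaf.stalk x.1) (M.presheaf.stalk x.1) := hM x.1
  haveI : Module.Flat Γ(X, U) (M.presheaf.stalk x.1) := Module.Flat.trans Γ(X, U) (X.presheaf.stalk x.1) _
  exact Module.Flat.of_linearEquiv (IsLocalizedModule.iso (hU.primeIdealOf x).asIdeal.primeCompl (germₗ M x))

variable {X S : Scheme.{u}} (f : X ⟶ S) (n : ℕ)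

theorem exists_symm : ∃ σ : PrinPart.nbhd f n ⟶ PrinPart.nbhd f n,
    σ ≫ PrinPart.nbhdι f n = PrinPart.nbhdι f n ≫ (pullbackSymmetry f f).hom ∧
    σ ≫ σ = 𝟙 (PrinPart.nbhd f n) ∧ σ ≫ PrinPart.pr1 f n = PrinPart.pr2 f n ∧
    σ ≫ PrinPart.pr2 f n = PrinPart.pr1 f n ∧ PrinPart.toNbhd f n ≫ σ = PrinPart.toNbhd f n := by
  let s := (pullbackSymmetry f f).hom
  let C := (pullback.diagonal f).coborderRange
  have hΔ : pullback.diagonal f ≫ s = pullback.diagonal f := by
    apply pullback.hom_ext <;> simp [s]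
  have hss : s ≫ s = 𝟙 _ := by
    apply pullback.hom_ext <;> simp [s]
  have hC : s ⁻¹ᵁ C = C := by
    refine Opens.ext ?_
    have hinv : ∀ z : ↥(pullback f f), s (s z) = z := fun z => by rw [← Scheme.Hom.comp_apply, hss]; rfl
    show s ⁻¹' coborder (Set.range (pullback.diagonal f)) = coborder (Set.range (pullback.diagonal f))
    refine (coborder_preimage s.homeomorph.isOpenMap s.continuous _).symm.trans ?_
    congr 1
    ext z
    constructor
    · rintro ⟨y, hy⟩
      replace hy : pullback.diagonal f y = s z := hy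
      exact ⟨y, by rw [← hinv z, ← hy, ← Scheme.Hom.comp_apply, hΔ]⟩
    · rintro ⟨y, rfl⟩
      refine ⟨y, ?_⟩
      show pullback.diagonal f y = s (pullback.diagonal f y)
      rw [← Scheme.Hom.comp_apply, hΔ]
  let sC : (C : Scheme.{u}) ⟶ C := IsOpenImmersion.lift C.ι (C.ι ≫ s) (by
    rw [← Scheme.Hom.coe_opensRange C.ι, Scheme.Opens.opensRange_ι]
    rintro _ ⟨w, rfl⟩
    exact hC.ge w.2)
  have hsC : sC ≫ C.ι = C.ι ≫ s := IsOpenImmersion.lift_fac _ _ _
  have hsC2 : sC ≫ sC = 𝟙 _ := by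
    rw [← cancel_mono C.ι, Category.assoc, hsC, ← Category.assoc, hsC, Category.assoc, hss, Category.comp_id,
      Category.id_comp]
  haveI : IsIso sC := ⟨sC, hsC2, hsC2⟩
  have hd : PrinPart.diagCl f ≫ sC = PrinPart.diagCl f := by
    rw [← cancel_mono C.ι, Category.assoc, hsC, ← Category.assoc, (pullback.diagonal f).liftCoborder_ι, hΔ]
  let ι := ((PrinPart.diagCl f).ker ^ (n + 1)).subschemeι
  let σ : PrinPart.nbhd f n ⟶ PrinPart.nbhd f n := IsClosedImmersion.lift ι (ι ≫ sC) (by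
    rw [Scheme.IdealSheafData.ker_subschemeι]
    exact ker_pow_le _ sC hd n)
  have hσ : σ ≫ ι = ι ≫ sC := IsClosedImmersion.lift_fac _ _ _
  have h1 : σ ≫ PrinPart.nbhdι f n = PrinPart.nbhdι f n ≫ s := by
    show σ ≫ ι ≫ C.ι = (ι ≫ C.ι) ≫ s
    rw [← Category.assoc, hσ, Category.assoc, hsC, Category.assoc]
  refine ⟨σ, h1, ?_, ?_, ?_, ?_⟩
  · rw [← cancel_mono ι, Category.assoc, hσ, ← Category.assoc, hσ, Category.assoc, hsC2, Category.comp_id,
      Category.id_comp]
  · rw [PrinPart.pr1, PrinPart.pr2, ← Category.assoc, h1, Category.assoc, pullbackSymmetry_hom_comp_fst]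
  · rw [PrinPart.pr1, PrinPart.pr2, ← Category.assoc, h1, Category.assoc, pullbackSymmetry_hom_comp_snd]
  · haveI : Mono (PrinPart.nbhdι f n) := by
      show Mono (ι ≫ C.ι)
      infer_instance
    rw [← cancel_mono (PrinPart.nbhdι f n), Category.assoc, h1, ← Category.assoc, PrinPart.toNbhd_ι, hΔ]

theorem flat_pr1_app [(PrinPart.P f n).IsQuasicoherent] (hP : FlatMod.IsFlat (PrinPart.P f n))
    {U : X.Opens} (hU : IsAffineOpen U) (hT : IsAffineOpen (PrinPart.pr1 f n ⁻¹ᵁ U)) :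
    ((PrinPart.pr1 f n).app U).hom.Flat := by
  let T := PrinPart.pr1 f n ⁻¹ᵁ U
  let Nm := (Scheme.Modules.pullback (PrinPart.pr2 f n)).obj (Coh.structureModule X)
  have hT2 : T ≤ PrinPart.pr2 f n ⁻¹ᵁ U := (PrinPart.preimage_pr1 f n U).le
  obtain ⟨g, hg⟩ := exists_sectionsEquiv (PrinPart.pr2 f n) (Coh.structureModule X) hU hT hT2
  letI := ((PrinPart.pr2 f n).appLE U T hT2).hom.toAlgebra
  let e1 : Γ(Nm, T) := pullSec (PrinPart.pr2 f n) (Coh.structureModule X) hT2 (OmegaSh.strSect X U 1)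
  have hfree : Function.Bijective fun c : Γ(PrinPart.nbhd f n, T) => (c • e1 : Γ(Nm, T)) := by
    let sE : Γ(X, U) ≃ₗ[Γ(X, U)] Γ(Coh.structureModule X, U) :=
      { toFun := fun a => OmegaSh.strSect X U a, invFun := fun a => OmegaSh.fnSect X U a
        left_inv := fun _ => rfl, right_inv := fun _ => rfl
        map_add' := fun _ _ => rfl, map_smul' := fun _ _ => rfl }
    let E := ((TensorProduct.AlgebraTensorModule.rid Γ(X, U) Γ(PrinPart.nbhd f n, T) Γ(PrinPart.nbhd f n, T)).symm.trans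
      (TensorProduct.AlgebraTensorModule.congr (LinearEquiv.refl Γ(PrinPart.nbhd f n, T) Γ(PrinPart.nbhd f n, T)) sE)).trans g
    convert E.bijective using 1
    funext c
    show c • e1 = g (TensorProduct.tmul _ c (OmegaSh.strSect X U 1))
    rw [show TensorProduct.tmul Γ(X, U) c (OmegaSh.strSect X U 1) =
      c • TensorProduct.tmul Γ(X, U) (1 : Γ(PrinPart.nbhd f n, T)) (OmegaSh.strSect X U 1) from by
      rw [TensorProduct.smul_tmul', smul_eq_mul, mul_one], map_smul, hg]
  haveI := flat_sections_of_isFlat (PrinPart.P f n) hP hU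
  letI alg1 : Algebra Γ(X, U) Γ(PrinPart.nbhd f n, T) := ((PrinPart.pr1 f n).app U).hom.toAlgebra
  letI : Module Γ(X, U) Γ(PrinPart.nbhd f n, T) := alg1.toModule
  let ψ : Γ(PrinPart.nbhd f n, T) →ₗ[Γ(X, U)] Γ(PrinPart.P f n, U) :=
    { toFun := fun c => (show Γ(Nm, T) from c • e1)
      map_add' := fun c c' => add_smul c c' e1
      map_smul' := fun a c => mul_smul ((PrinPart.pr1 f n).app U a) c e1 }
  exact Module.Flat.of_linearEquiv (LinearEquiv.ofBijective ψ hfree)

theorem flat_pr1 [(PrinPart.P f n).IsQuasicoherent] (hP : FlatMod.IsFlat (PrinPart.P f n)) :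
    Flat (PrinPart.pr1 f n) := by
  rw [IsZariskiLocalAtTarget.iff_of_iSup_eq_top (P := @Flat) _ (iSup_affineOpens_eq_top X)]
  intro U
  have hsub : IsAffineOpen (PrinPart.pr1 f n ⁻¹ᵁ U.1) := by
    haveI : IsAffineHom (PrinPart.pr1 f n) := isAffineHom_of_isInducing _
      (Groth.Agent.S5959.isHomeomorph_pr1 f n).isEmbedding.isInducing
      ((Groth.Agent.S5959.isHomeomorph_pr1 f n).surjective.range_eq ▸ isClosed_univ)
    exact U.2.preimage _
  haveI : IsAffine (U.1 : Scheme.{u}) := U.2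
  haveI : IsAffine (PrinPart.pr1 f n ⁻¹ᵁ U.1 : Scheme.{u}) := hsub
  rw [HasRingHomProperty.iff_of_isAffine (P := @Flat), morphismRestrict_appTop]
  have key : ∀ W : X.Opens, W = U.1 → ((PrinPart.pr1 f n).app W).hom.Flat := by
    rintro W rfl; exact flat_pr1_app f n hP U.2 hsub
  exact RingHom.Flat.comp (key _ U.1.ι_image_top) (RingHom.Flat.of_bijective
    (ConcreteCategory.bijective_of_isIso ((PrinPart.nbhd f n).presheaf.map _)))

end Groth.Agent.PrinDiff
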