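import Groth.Agent.PrinDiff.GrBaseChange
import Groth.Agent.PrinDiff.Symm
import Groth.Agent.ModStalk.IsoCriterion
import Groth.Agent.ModStalk.PullbackQCoh
import Groth.Agent.ModStalk.PullbackSections
import Groth.Agent.ModStalk.IdealMod
import Groth.Agent.ModStalk.OmegaSplit
import Groth.Agent.Flat.CartierFibre
import Groth.Agent.S5951
import Groth.Prelude.Def_OmegaPn

/-! The base change map of the graded pieces of a closed immersion over affine opens. -/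

set_option autoImplicit false
set_option linter.style.haveILetI false
universe u

open CategoryTheory CategoryTheory.Limits AlgebraicGeometry Opposite TopologicalSpace
open scoped TensorProduct

namespace Groth.Agent.PrinDiff

open Groth.Agent.ModStalk

theorem isQuasicoherent_grMod {X Y : Scheme.{u}} (i : Y ⟶ X) (n : ℕ) : (PrinPart.grMod i n).IsQuasicoherent := by
  haveI : (ClSub.idealMod (i.ker ^ n)).IsQuasicoherent := isQuasicoherent_idealMod _
  exact isQuasicoherent_pullback i _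

/-- Functions that lie in the ideal on affine opens are sections of the ideal module. -/
theorem exists_idealSect_eq {X : Scheme.{u}} (I : X.IdealSheafData) {W : X.Opens} (x : Γ(X, W))
    (h : ∀ U : X.affineOpens, (hU : U.1 ≤ W) → X.presheaf.map (homOfLE hU).op x ∈ I.ideal U) :
    ∃ t : Γ(ClSub.idealMod I, W), OmegaSh.idealSect I W t = x := by
  let T : ShortComplex X.Modules := ShortComplex.mk (ClSub.idealModι I) (ClSub.toSubscheme I) (kernel.condition _)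
  have hT : T.Exact := ShortComplex.exact_of_f_is_kernel T (kernelIsKernel (ClSub.toSubscheme I))
  have : Mono T.f := inferInstanceAs (Mono (kernel.ι (ClSub.toSubscheme I)))
  refine exists_app_eq hT (W := W) x (eq_of_germ_eq T.X₃ _ _ fun y hy => ?_)
  obtain ⟨U, hU, hyU, hUW'⟩ := exists_isAffineOpen_mem_and_subset hy
  have hUW : U ≤ W := hUW'
  rw [map_zero, ← TopCat.Presheaf.germ_res_apply T.X₃.presheaf (homOfLE hUW) y hyU, ← app_res]
  obtain ⟨t, ht⟩ := (exists_idealMod_app I ⟨U, hU⟩ _).mp (h ⟨U, hU⟩ hUW)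
  have h0 : T.g.app U ((Coh.structureModule X).presheaf.map (homOfLE hUW).op x) = 0 := by
    exact (congrArg (fun a => T.g.app U a) ht.symm).trans
      (congrArg (fun φ => Scheme.Modules.Hom.app φ U t) (kernel.condition (ClSub.toSubscheme I)))
  exact (congrArg (T.X₃.presheaf.germ U y hyU) h0).trans (map_zero _)

/-- The sections of the ideal module as a submodule of the functions. -/
noncomputable def idealSectₗ {X : Scheme.{u}} (I : X.IdealSheafData) (U : X.Opens) :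
    Γ(ClSub.idealMod I, U) →ₗ[Γ(X, U)] Γ(X, U) where
  toFun := OmegaSh.idealSect I U
  map_add' := map_add _
  map_smul' := idealSect_smul I

theorem idealSectₗ_injective {X : Scheme.{u}} (I : X.IdealSheafData) (U : X.Opens) :
    Function.Injective (idealSectₗ I U) := idealModι_injective I U

theorem range_idealSectₗ {X : Scheme.{u}} (I : X.IdealSheafData) {U : X.Opens} (hU : IsAffineOpen U) :
    LinearMap.range (idealSectₗ I U) = I.ideal ⟨U, hU⟩ :=
  Submodule.ext fun a => (exists_idealMod_app I ⟨U, hU⟩ a).symm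

theorem idealSect_res {X : Scheme.{u}} (I : X.IdealSheafData) {U V : X.Opens} (h : V ≤ U)
    (t : Γ(ClSub.idealMod I, U)) :
    OmegaSh.idealSect I V ((ClSub.idealMod I).presheaf.map (homOfLE h).op t) =
      X.presheaf.map (homOfLE h).op (OmegaSh.idealSect I U t) :=
  app_res (ClSub.idealModι I) h t

theorem pullSec_res {X Y : Scheme.{u}} (f : X ⟶ Y) (M : Y.Modules) {U U' : Y.Opens} {V V' : X.Opens}
    (h : V ≤ f ⁻¹ᵁ U) (hU : U' ≤ U) (h' : V' ≤ f ⁻¹ᵁ U') (hV : V' ≤ V) (m : Γ(M, U)) :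
    pullSec f M h' (M.presheaf.map (homOfLE hU).op m) =
      ((Scheme.Modules.pullback f).obj M).presheaf.map (homOfLE hV).op (pullSec f M h m) := by
  refine eq_of_germ_eq _ _ _ fun x hx => ?_
  rw [germ_pullSec, TopCat.Presheaf.germ_res_apply, TopCat.Presheaf.germ_res_apply, germ_pullSec]

variable {Y X Y' X' : Scheme.{u}} (f : Y ⟶ X) [IsClosedImmersion f] (v : X' ⟶ X) (u : Y' ⟶ Y) (f' : Y' ⟶ X')

/-- The canonical map on classes. -/
theorem app_class (n : ℕ) (φ : (Scheme.Modules.pullback u).obj (PrinPart.grMod f n) ⟶ PrinPart.grMod f' n)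
    (hφ : PrinPart.IsGrMap f' f v u n φ) (hker : f'.ker = f.ker.comap v)
    {V : X.Opens} (hV : IsAffineOpen V) {V' : X'.Opens} (hVV : V' ≤ v ⁻¹ᵁ V)
    (hWW : f' ⁻¹ᵁ V' ≤ u ⁻¹ᵁ (f ⁻¹ᵁ V)) (m : Γ(ClSub.idealMod (f.ker ^ n), V))
    (m' : Γ(ClSub.idealMod (f'.ker ^ n), V'))
    (hm : OmegaSh.idealSect (f'.ker ^ n) V' m' = v.appLE V V' hVV (OmegaSh.idealSect (f.ker ^ n) V m)) :
    φ.app (f' ⁻¹ᵁ V') (pullSec u (PrinPart.grMod f n) hWW
      (pullSec f (ClSub.idealMod (f.ker ^ n)) (le_refl (f ⁻¹ᵁ V)) m)) =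
      pullSec f' (ClSub.idealMod (f'.ker ^ n)) (le_refl (f' ⁻¹ᵁ V')) m' := by
  obtain ⟨s, hs⟩ := exists_idealSect_eq (f'.ker ^ n) (v.app V (OmegaSh.idealSect (f.ker ^ n) V m)) fun U hU => by
    rw [hker, ← Groth.Agent.S5951.comap_pow, Groth.Agent.Flat.CartierFibre.ideal_comap _ v ⟨V, hV⟩ U hU]
    exact Ideal.mem_map_of_mem (v.appLE V U.1 hU).hom ((exists_idealMod_app _ ⟨V, hV⟩ _).mpr ⟨m, rfl⟩)
  have hm' : m' = (ClSub.idealMod (f'.ker ^ n)).presheaf.map (homOfLE hVV).op s := by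
    refine idealModι_injective (f'.ker ^ n) V' ?_
    show OmegaSh.idealSect _ V' m' = OmegaSh.idealSect _ V' _
    rw [idealSect_res, hs, hm]
    rfl
  have key := hφ.2 V m s hs (f' ⁻¹ᵁ V') hWW (f'.preimage_mono hVV)
  have h1 : pullSec f (ClSub.idealMod (f.ker ^ n)) (le_refl (f ⁻¹ᵁ V)) m = PrinPart.grSect f n V m := by
    show ((Scheme.Modules.pullback f).obj _).presheaf.map (homOfLE (le_refl (f ⁻¹ᵁ V))).op _ = _
    rw [show (homOfLE (le_refl (f ⁻¹ᵁ V))).op = 𝟙 _ from rfl, CategoryTheory.Functor.map_id]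
    rfl
  rw [h1, hm', pullSec_res f' _ (le_refl (f' ⁻¹ᵁ (v ⁻¹ᵁ V))) hVV le_rfl (f'.preimage_mono hVV)]
  refine (app_res φ hWW _).trans (key.trans ?_)
  show (PrinPart.grMod f' n).presheaf.map (homOfLE (f'.preimage_mono hVV)).op _ = _
  congr 1
  show _ = ((Scheme.Modules.pullback f').obj _).presheaf.map (homOfLE (le_refl (f' ⁻¹ᵁ (v ⁻¹ᵁ V)))).op _
  rw [show (homOfLE (le_refl (f' ⁻¹ᵁ (v ⁻¹ᵁ V)))).op = 𝟙 _ from rfl, CategoryTheory.Functor.map_id]
  rfl

/-- Over affine opens the canonical map is surjective, and bijective when the ideal stays injective. -/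
theorem grMap_app (n : ℕ) (φ : (Scheme.Modules.pullback u).obj (PrinPart.grMod f n) ⟶ PrinPart.grMod f' n)
    (hφ : PrinPart.IsGrMap f' f v u n φ) [IsClosedImmersion f'] (hker : f'.ker = f.ker.comap v)
    {V : X.Opens} (hV : IsAffineOpen V) {V' : X'.Opens} (hV' : IsAffineOpen V') (hVV : V' ≤ v ⁻¹ᵁ V) :
    Function.Surjective (φ.app (f' ⁻¹ᵁ V')) ∧
      ((letI := (v.appLE V V' hVV).hom.toAlgebra
        Function.Injective (gI Γ(X, V) Γ(X', V') (idealSectₗ (f.ker ^ n) V))) →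
        Function.Bijective (φ.app (f' ⁻¹ᵁ V'))) := by
  have hW : IsAffineOpen (f ⁻¹ᵁ V) := hV.preimage f
  have hW' : IsAffineOpen (f' ⁻¹ᵁ V') := hV'.preimage f'
  have hWW : f' ⁻¹ᵁ V' ≤ u ⁻¹ᵁ (f ⁻¹ᵁ V) := by
    rw [← Scheme.Hom.comp_preimage, hφ.1, Scheme.Hom.comp_preimage]
    exact f'.preimage_mono hVV
  haveI : (ClSub.idealMod (f.ker ^ n)).IsQuasicoherent := isQuasicoherent_idealMod _
  haveI : (ClSub.idealMod (f'.ker ^ n)).IsQuasicoherent := isQuasicoherent_idealMod _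
  haveI := isQuasicoherent_grMod f n
  obtain ⟨e0, he0⟩ := exists_sectionsEquiv f (ClSub.idealMod (f.ker ^ n)) hV hW (le_refl (f ⁻¹ᵁ V))
  obtain ⟨e1, he1⟩ := exists_sectionsEquiv u (PrinPart.grMod f n) hW hW' hWW
  obtain ⟨e2, he2⟩ := exists_sectionsEquiv f' (ClSub.idealMod (f'.ker ^ n)) hV' hW' (le_refl (f' ⁻¹ᵁ V'))
  letI := (v.appLE V V' hVV).hom.toAlgebra
  letI := (f.appLE V (f ⁻¹ᵁ V) le_rfl).hom.toAlgebra
  letI := (f'.appLE V' (f' ⁻¹ᵁ V') le_rfl).hom.toAlgebra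
  letI := (u.appLE (f ⁻¹ᵁ V) (f' ⁻¹ᵁ V') hWW).hom.toAlgebra
  letI := ((u.appLE (f ⁻¹ᵁ V) (f' ⁻¹ᵁ V') hWW).hom.comp (f.appLE V (f ⁻¹ᵁ V) le_rfl).hom).toAlgebra
  haveI : IsScalarTower Γ(X, V) Γ(Y, f ⁻¹ᵁ V) Γ(Y', f' ⁻¹ᵁ V') := IsScalarTower.of_algebraMap_eq fun _ => rfl
  haveI : IsScalarTower Γ(X, V) Γ(X', V') Γ(Y', f' ⁻¹ᵁ V') := IsScalarTower.of_algebraMap_eq fun a => by
    show (f.appLE V (f ⁻¹ᵁ V) le_rfl ≫ u.appLE (f ⁻¹ᵁ V) (f' ⁻¹ᵁ V') hWW) a =
      (v.appLE V V' hVV ≫ f'.appLE V' (f' ⁻¹ᵁ V') le_rfl) a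
    rw [Scheme.Hom.appLE_comp_appLE, Scheme.Hom.appLE_comp_appLE]
    simp only [hφ.1]
  obtain ⟨g, hgs, hg, hgb⟩ := exists_lift Γ(X, V) Γ(X', V') (idealSectₗ (f.ker ^ n) V)
    (idealSectₗ (f'.ker ^ n) V') (idealSectₗ_injective _ _) (by
      rw [range_idealSectₗ _ hV', range_idealSectₗ _ hV, hker, ← Groth.Agent.S5951.comap_pow,
        Groth.Agent.Flat.CartierFibre.ideal_comap _ v ⟨V, hV⟩ ⟨V', hV'⟩ hVV]
      rfl)
  let Φ : Γ((Scheme.Modules.pullback u).obj (PrinPart.grMod f n), f' ⁻¹ᵁ V') →ₗ[Γ(Y', f' ⁻¹ᵁ V')]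
      Γ(PrinPart.grMod f' n, f' ⁻¹ᵁ V') :=
    { toFun := φ.app _, map_add' := map_add _, map_smul' := fun a m => φ.app_smul a m }
  let e0' := TensorProduct.AlgebraTensorModule.congr
    (LinearEquiv.refl Γ(Y', f' ⁻¹ᵁ V') Γ(Y', f' ⁻¹ᵁ V')) e0
  let L := (e2.symm.toLinearMap.comp Φ).comp (e1.toLinearMap.comp e0'.toLinearMap)
  have hL : ∀ m, L (1 ⊗ₜ (1 ⊗ₜ m)) = 1 ⊗ₜ g (1 ⊗ₜ m) := by
    intro m
    apply e2.injective
    show e2 (e2.symm (φ.app _ (e1 (1 ⊗ₜ e0 (1 ⊗ₜ m))))) = _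
    rw [e2.apply_symm_apply, he2, he0]
    rw [show e1 (1 ⊗ₜ pullSec f (ClSub.idealMod (f.ker ^ n)) (le_refl (f ⁻¹ᵁ V)) m) = _ from he1 _]
    exact app_class f v u f' n φ hφ hker hV hVV hWW m (g (1 ⊗ₜ m)) (hg m)
  obtain ⟨h1, h2⟩ := baseChange_gr _ _ _ _ g L hL
  have key : ∀ z, φ.app (f' ⁻¹ᵁ V') z = e2 (L (e0'.symm (e1.symm z))) := by
    intro z
    show _ = e2 (e2.symm (φ.app _ (e1 (e0' (e0'.symm (e1.symm z))))))
    rw [e0'.apply_symm_apply, e1.apply_symm_apply, e2.apply_symm_apply]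
  refine ⟨?_, fun hi => ?_⟩
  · rw [funext key]
    exact e2.surjective.comp ((h1 hgs).comp (e0'.symm.surjective.comp e1.symm.surjective))
  · rw [funext key]
    exact e2.bijective.comp ((h2 (hgb hi)).comp (e0'.symm.bijective.comp e1.symm.bijective))

theorem ker_of_isPullback (hsq : IsPullback u f' f v) : f'.ker = f.ker.comap v := by
  rw [← Scheme.IdealSheafData.ker_fst_of_isClosedImmersion, ← Scheme.Hom.ker_comp_of_isIso hsq.flip.isoPullback.hom,
    IsPullback.isoPullback_hom_fst]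

theorem epi_of_app_surjective {Z : Scheme.{u}} {F G : Z.Modules} [G.IsQuasicoherent] (φ : F ⟶ G)
    (h : ∀ x : Z, ∃ U : Z.Opens, IsAffineOpen U ∧ x ∈ U ∧ Function.Surjective (φ.app U)) : Epi φ := by
  refine epi_of_stalkMap_surjective φ fun x n => ?_
  obtain ⟨U, hU, hx, hsurj⟩ := h x
  obtain ⟨c, t, hc, ht⟩ := exists_smul_eq_germ G hU x hx n
  obtain ⟨s, rfl⟩ := hsurj t
  obtain ⟨w, hw⟩ := (Scheme.mem_basicOpen Z c x hx).mp hc
  refine ⟨(↑w⁻¹ : Z.presheaf.stalk x) • F.presheaf.germ U x hx s, ?_⟩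
  rw [map_smul, RefHull.stalkMapₗ_germ, ← ht, smul_smul, ← hw, Units.inv_mul, one_smul]

theorem exists_gr_affine_pair (y' : Y') (hcomm : u ≫ f = f' ≫ v) :
    ∃ (V : X.Opens) (V' : X'.Opens), IsAffineOpen V ∧ IsAffineOpen V' ∧ V' ≤ v ⁻¹ᵁ V ∧ y' ∈ f' ⁻¹ᵁ V' := by
  obtain ⟨V, hV, hxV, -⟩ := exists_isAffineOpen_mem_and_subset (X := X) (x := v (f' y')) (U := ⊤) trivial
  obtain ⟨V', hV', hxV', hVV⟩ := exists_isAffineOpen_mem_and_subset (x := f' y') (U := v ⁻¹ᵁ V) hxV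
  exact ⟨V, V', hV, hV', hVV, hxV'⟩

theorem epi_grMap (hsq : IsPullback u f' f v) (n : ℕ)
    (φ : (Scheme.Modules.pullback u).obj (PrinPart.grMod f n) ⟶ PrinPart.grMod f' n)
    (hφ : PrinPart.IsGrMap f' f v u n φ) : Epi φ := by
  haveI : IsClosedImmersion f' := MorphismProperty.of_isPullback hsq inferInstance
  haveI := isQuasicoherent_grMod f' n
  refine epi_of_app_surjective φ fun y' => ?_
  obtain ⟨V, V', hV, hV', hVV, hy⟩ := exists_gr_affine_pair f v u f' y' hsq.w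
  exact ⟨_, hV'.preimage f', hy, (grMap_app f v u f' n φ hφ (ker_of_isPullback f v u f' hsq) hV hV' hVV).1⟩

theorem isIso_grMap_of_flat [Flat v] (hsq : IsPullback u f' f v) (n : ℕ)
    (φ : (Scheme.Modules.pullback u).obj (PrinPart.grMod f n) ⟶ PrinPart.grMod f' n)
    (hφ : PrinPart.IsGrMap f' f v u n φ) : IsIso φ := by
  haveI : IsClosedImmersion f' := MorphismProperty.of_isPullback hsq inferInstance
  haveI := isQuasicoherent_grMod f n
  haveI := isQuasicoherent_grMod f' n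
  haveI : ((Scheme.Modules.pullback u).obj (PrinPart.grMod f n)).IsQuasicoherent := isQuasicoherent_pullback u _
  refine isIso_of_app_bijective φ fun y' => ?_
  obtain ⟨V, V', hV, hV', hVV, hy⟩ := exists_gr_affine_pair f v u f' y' hsq.w
  refine ⟨_, hV'.preimage f', hy, (grMap_app f v u f' n φ hφ (ker_of_isPullback f v u f' hsq) hV hV' hVV).2 ?_⟩
  letI := (v.appLE V V' hVV).hom.toAlgebra
  haveI : Module.Flat Γ(X, V) Γ(X', V') := Flat.flat_appLE v hV hV' hVV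
  exact gI_injective_of_flat _ _ (idealSectₗ_injective _ _)

end Groth.Agent.PrinDiff
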