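import Groth.Agent.PrinDiff.GrSections

/-! The base change map of the graded pieces of a section is an isomorphism. -/

set_option autoImplicit false
set_option linter.style.haveILetI false
universe u

open CategoryTheory CategoryTheory.Limits AlgebraicGeometry Opposite TopologicalSpace
open scoped TensorProduct

namespace Groth.Agent.PrinDiff

open Groth.Agent.ModStalk

variable {X Y X' Y' : Scheme.{u}} (g : X ⟶ Y) (f : Y ⟶ X) (u : Y' ⟶ Y) (v : X' ⟶ X) (g' : X' ⟶ Y') (f' : Y' ⟶ X')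

theorem flat_gr_tensor [IsClosedImmersion f] {V : X.Opens} (hV : IsAffineOpen V) (k : ℕ)
    (hk : k = 0 ∨ FlatMod.IsFlat (PrinPart.grMod f k)) :
    letI := (f.appLE V (f ⁻¹ᵁ V) le_rfl).hom.toAlgebra
    Module.Flat Γ(Y, f ⁻¹ᵁ V) (Γ(Y, f ⁻¹ᵁ V) ⊗[Γ(X, V)] ↥(RingHom.ker (algebraMap Γ(X, V) Γ(Y, f ⁻¹ᵁ V)) ^ k)) := by
  letI := (f.appLE V (f ⁻¹ᵁ V) le_rfl).hom.toAlgebra
  rcases hk with rfl | hk
  · let e : ↥(RingHom.ker (algebraMap Γ(X, V) Γ(Y, f ⁻¹ᵁ V)) ^ 0) ≃ₗ[Γ(X, V)] Γ(X, V) :=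
      LinearEquiv.ofTop _ (by rw [pow_zero, Ideal.one_eq_top])
    exact Module.Flat.of_linearEquiv
      ((TensorProduct.AlgebraTensorModule.congr (LinearEquiv.refl Γ(Y, f ⁻¹ᵁ V) Γ(Y, f ⁻¹ᵁ V)) e).trans
        (TensorProduct.AlgebraTensorModule.rid Γ(X, V) Γ(Y, f ⁻¹ᵁ V) Γ(Y, f ⁻¹ᵁ V)))
  · haveI : (ClSub.idealMod (f.ker ^ k)).IsQuasicoherent := isQuasicoherent_idealMod _
    haveI := isQuasicoherent_grMod f k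
    obtain ⟨e0, -⟩ := exists_sectionsEquiv f (ClSub.idealMod (f.ker ^ k)) hV (hV.preimage f) (le_refl (f ⁻¹ᵁ V))
    haveI : Module.Flat Γ(Y, f ⁻¹ᵁ V) Γ((Scheme.Modules.pullback f).obj (ClSub.idealMod (f.ker ^ k)), f ⁻¹ᵁ V) :=
      flat_sections_of_isFlat (PrinPart.grMod f k) hk (hV.preimage f)
    have hr : LinearMap.range (idealSectₗ (f.ker ^ k) V) = RingHom.ker (algebraMap Γ(X, V) Γ(Y, f ⁻¹ᵁ V)) ^ k := by
      rw [range_idealSectₗ _ hV, Scheme.IdealSheafData.ideal_pow, Pi.pow_apply, Scheme.Hom.ker_apply,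
        Scheme.Hom.app_eq_appLE]
      rfl
    let e : Γ(ClSub.idealMod (f.ker ^ k), V) ≃ₗ[Γ(X, V)] ↥(RingHom.ker (algebraMap Γ(X, V) Γ(Y, f ⁻¹ᵁ V)) ^ k) :=
      (LinearEquiv.ofInjective _ (idealSectₗ_injective _ _)).trans (LinearEquiv.ofEq _ _ hr)
    exact Module.Flat.of_linearEquiv
      ((TensorProduct.AlgebraTensorModule.congr (LinearEquiv.refl Γ(Y, f ⁻¹ᵁ V) Γ(Y, f ⁻¹ᵁ V)) e.symm).trans e0)

theorem gI_injective_section [IsClosedImmersion f] (hf : f ≫ g = 𝟙 Y) (hsq : IsPullback v g' g u) (n : ℕ)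
    (hflat : ∀ k < n, k = 0 ∨ FlatMod.IsFlat (PrinPart.grMod f k))
    {V : X.Opens} (hV : IsAffineOpen V) (hVW : V ≤ g ⁻¹ᵁ (f ⁻¹ᵁ V)) {W' : Y'.Opens} (hW' : IsAffineOpen W')
    (hWW : W' ≤ u ⁻¹ᵁ (f ⁻¹ᵁ V)) :
    IsAffineOpen (v ⁻¹ᵁ V ⊓ g' ⁻¹ᵁ W') ∧
      (letI := (v.appLE V (v ⁻¹ᵁ V ⊓ g' ⁻¹ᵁ W') inf_le_left).hom.toAlgebra
       Function.Injective (gI Γ(X, V) Γ(X', v ⁻¹ᵁ V ⊓ g' ⁻¹ᵁ W') (idealSectₗ (f.ker ^ n) V))) := by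
  have hW : IsAffineOpen (f ⁻¹ᵁ V) := hV.preimage f
  haveI : IsAffine _ := hV
  haveI : IsAffine _ := hW
  haveI : IsAffine _ := hW'
  refine ⟨.of_isIso (Scheme.Hom.isPullback_resLE hsq hWW hVW rfl).isoPullback.hom, ?_⟩
  have hpo := (isIso_pushoutSection_iff hsq hWW hVW rfl).mp
    (isIso_pushoutSection_of_isAffineOpen hsq hWW hVW rfl hW hW' hV)
  letI := (v.appLE V (v ⁻¹ᵁ V ⊓ g' ⁻¹ᵁ W') inf_le_left).hom.toAlgebra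
  letI := (f.appLE V (f ⁻¹ᵁ V) le_rfl).hom.toAlgebra
  letI := (g.appLE (f ⁻¹ᵁ V) V hVW).hom.toAlgebra
  letI := (u.appLE (f ⁻¹ᵁ V) W' hWW).hom.toAlgebra
  letI := (g'.appLE W' (v ⁻¹ᵁ V ⊓ g' ⁻¹ᵁ W') inf_le_right).hom.toAlgebra
  letI := ((v.appLE V (v ⁻¹ᵁ V ⊓ g' ⁻¹ᵁ W') inf_le_left).hom.comp (g.appLE (f ⁻¹ᵁ V) V hVW).hom).toAlgebra
  haveI : IsScalarTower Γ(Y, f ⁻¹ᵁ V) Γ(X, V) Γ(Y, f ⁻¹ᵁ V) := IsScalarTower.of_algebraMap_eq fun c => by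
    show c = (g.appLE (f ⁻¹ᵁ V) V hVW ≫ f.appLE V (f ⁻¹ᵁ V) le_rfl) c
    rw [Scheme.Hom.appLE_comp_appLE]
    simp only [hf]
    simp [Scheme.Hom.appLE]
    exact (ConcreteCategory.congr_hom (Y.presheaf.map_id _) c).symm
  haveI : IsScalarTower Γ(Y, f ⁻¹ᵁ V) Γ(X, V) Γ(X', v ⁻¹ᵁ V ⊓ g' ⁻¹ᵁ W') :=
    IsScalarTower.of_algebraMap_eq fun _ => rfl
  haveI : IsScalarTower Γ(Y, f ⁻¹ᵁ V) Γ(Y', W') Γ(X', v ⁻¹ᵁ V ⊓ g' ⁻¹ᵁ W') :=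
    IsScalarTower.of_algebraMap_eq fun a => ConcreteCategory.congr_hom hpo.w a
  haveI : Algebra.IsPushout Γ(Y, f ⁻¹ᵁ V) Γ(Y', W') Γ(X, V) Γ(X', v ⁻¹ᵁ V ⊓ g' ⁻¹ᵁ W') :=
    CommRingCat.isPushout_iff_isPushout.mp hpo.flip
  refine gI_injective_of_split Γ(Y, f ⁻¹ᵁ V) Γ(X, V) Γ(Y', W') _ n (idealSectₗ_injective _ _) ?_
    fun k hk => flat_gr_tensor f hV k (hflat k hk)
  rw [range_idealSectₗ _ hV, Scheme.IdealSheafData.ideal_pow, Pi.pow_apply, Scheme.Hom.ker_apply,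
    Scheme.Hom.app_eq_appLE]
  rfl

theorem isIso_grMap_section [IsClosedImmersion f] (hf : f ≫ g = 𝟙 Y) (hsq : IsPullback v g' g u)
    (hf' : f' ≫ g' = 𝟙 Y') (hf'v : f' ≫ v = u ≫ f) (n : ℕ)
    (hflat : ∀ k < n, k = 0 ∨ FlatMod.IsFlat (PrinPart.grMod f k))
    (φ : (Scheme.Modules.pullback u).obj (PrinPart.grMod f n) ⟶ PrinPart.grMod f' n)
    (hφ : PrinPart.IsGrMap f' f v u n φ) : IsIso φ := by
  have hsq' : IsPullback u f' f v := by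
    refine IsPullback.of_bot ?_ hf'v.symm hsq
    rw [hf, hf']
    exact IsPullback.of_vert_isIso ⟨by simp⟩
  haveI : IsClosedImmersion f' := MorphismProperty.of_isPullback hsq' inferInstance
  haveI := isQuasicoherent_grMod f n
  haveI := isQuasicoherent_grMod f' n
  haveI : ((Scheme.Modules.pullback u).obj (PrinPart.grMod f n)).IsQuasicoherent := isQuasicoherent_pullback u _
  refine isIso_of_app_bijective φ fun y' => ?_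
  have hgf : ∀ y, g (f y) = y := fun y => by rw [← Scheme.Hom.comp_apply, hf]; rfl
  obtain ⟨W₀, hW₀, hyW₀, -⟩ := exists_isAffineOpen_mem_and_subset (X := Y) (x := u y') (U := ⊤) trivial
  obtain ⟨V₀, hV₀, hxV₀, hV₀W⟩ := exists_isAffineOpen_mem_and_subset (x := f (u y')) (U := g ⁻¹ᵁ W₀)
    (show g (f (u y')) ∈ W₀ from (hgf _).symm ▸ hyW₀)
  obtain ⟨c, hc, hyc⟩ := hW₀.exists_basicOpen_le (V := f ⁻¹ᵁ V₀) ⟨u y', hxV₀⟩ hyW₀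
  have hV : IsAffineOpen (V₀ ⊓ g ⁻¹ᵁ Y.basicOpen c) := by
    have : V₀ ⊓ g ⁻¹ᵁ Y.basicOpen c = X.basicOpen (g.appLE W₀ V₀ hV₀W c) := by
      rw [Scheme.Hom.appLE, CommRingCat.comp_apply, Scheme.basicOpen_res, Scheme.preimage_basicOpen]
    rw [this]; exact hV₀.basicOpen _
  have hfV : f ⁻¹ᵁ (V₀ ⊓ g ⁻¹ᵁ Y.basicOpen c) = Y.basicOpen c := by
    refine le_antisymm (fun y hy => ?_) fun y hy => ⟨hc hy, show g (f y) ∈ Y.basicOpen c from (hgf y).symm ▸ hy⟩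
    exact (hgf y) ▸ hy.2
  have hVW : V₀ ⊓ g ⁻¹ᵁ Y.basicOpen c ≤ g ⁻¹ᵁ (f ⁻¹ᵁ (V₀ ⊓ g ⁻¹ᵁ Y.basicOpen c)) :=
    hfV.symm ▸ inf_le_right
  obtain ⟨W', hW', hyW', hWW⟩ := exists_isAffineOpen_mem_and_subset (x := y')
    (U := u ⁻¹ᵁ (f ⁻¹ᵁ (V₀ ⊓ g ⁻¹ᵁ Y.basicOpen c))) (show u y' ∈ _ from hfV.symm ▸ hyc)
  obtain ⟨hV', hinj⟩ := gI_injective_section g f u v g' hf hsq n hflat hV hVW hW' hWW
  refine ⟨_, hV'.preimage f', ⟨?_, ?_⟩,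
    (grMap_app f v u f' n φ hφ (ker_of_isPullback f v u f' hsq') hV hV' inf_le_left).2 hinj⟩
  · show v (f' y') ∈ V₀ ⊓ g ⁻¹ᵁ Y.basicOpen c
    rw [← Scheme.Hom.comp_apply, hf'v, Scheme.Hom.comp_apply]
    exact hWW hyW'
  · show g' (f' y') ∈ W'
    rw [← Scheme.Hom.comp_apply, hf']
    exact hyW'

end Groth.Agent.PrinDiff
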