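import Groth.Prelude.Def_PP16
import Mathlib.Algebra.BigOperators.Ring.Finset
import Mathlib.RingTheory.Ideal.Operations

/-! Differential operators on modules: iterated commutators and factorisation through principal parts. -/

set_option autoImplicit false
set_option linter.style.haveILetI false
universe u

open scoped TensorProduct

namespace Groth.Agent.PrinDiff

section Comm

variable {B M N K : Type*} [CommRing B] [AddCommGroup M] [Module B M] [AddCommGroup N] [Module B N]
  [AddCommGroup K] [Module B K]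

/-- The alternating sum of `b_H • D (b_{s \ H} • m)` over subsets `H` of `s`. -/
def altSum {ι : Type*} [DecidableEq ι] (D : M → N) (s : Finset ι) (a : ι → B) (m : M) : N :=
  ∑ H ∈ s.powerset, ((-1 : ℤ) ^ H.card) • ((∏ i ∈ H, a i) • D ((∏ i ∈ s \ H, a i) • m))

/-- The commutator of `D` with multiplication by `b`. -/
def comm (D : M → N) (b : B) (m : M) : N := D (b • m) - b • D m

theorem altSum_insert {ι : Type*} [DecidableEq ι] (D : M → N) {s : Finset ι} {i : ι} (hi : i ∉ s) (a : ι → B)
    (m : M) : altSum D (insert i s) a m = altSum (comm D (a i)) s a m := by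
  rw [altSum, altSum, Finset.sum_powerset_insert hi, ← Finset.sum_add_distrib]
  refine Finset.sum_congr rfl fun H hH => ?_
  have hH' : H ⊆ s := Finset.mem_powerset.mp hH
  have hiH : i ∉ H := fun h => hi (hH' h)
  rw [Finset.insert_sdiff_of_notMem s hiH, Finset.prod_insert (by simp [hi]), Finset.card_insert_of_notMem hiH,
    Finset.prod_insert hiH, show insert i s \ insert i H = s \ H from by
      ext x; simp only [Finset.mem_sdiff, Finset.mem_insert]; constructor
      · rintro ⟨rfl | h1, h2⟩
        · exact absurd (Or.inl rfl) h2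
        · exact ⟨h1, fun h => h2 (Or.inr h)⟩
      · rintro ⟨h1, h2⟩; exact ⟨Or.inr h1, fun h => h.elim (fun e => hi (e ▸ h1)) h2⟩]
  rw [comm, smul_sub, smul_sub, smul_smul, smul_smul, mul_comm (a i) (∏ x ∈ H, a x), pow_succ, mul_neg_one, neg_smul,
    sub_eq_add_neg]

theorem altSum_map {ι κ : Type*} [DecidableEq ι] [DecidableEq κ] (e : ι ↪ κ) (s : Finset ι) :
    ∀ (D : M → N) (a : κ → B) (m : M), altSum D (s.map e) a m = altSum D s (a ∘ e) m := by
  induction s using Finset.induction with
  | empty => intro D a m; simp [altSum]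
  | @insert i s hi ih =>
    intro D a m
    rw [Finset.map_insert, altSum_insert D (by simpa using hi), altSum_insert D hi, ih]
    rfl

theorem altSum_univ {k : ℕ} (D : M → N) (a : Fin k → B) (m : M) :
    altSum D Finset.univ a m =
      ∑ H : Finset (Fin k), ((-1 : ℤ) ^ H.card) • ((∏ i ∈ H, a i) • D ((∏ i ∈ Hᶜ, a i) • m)) := by
  rw [altSum, Finset.powerset_univ]
  exact Finset.sum_congr rfl fun H _ => by rw [← Finset.compl_eq_univ_sdiff]

variable (B) in
/-- All `k`-fold iterated commutators of `D` vanish. -/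
def IsOrd : ℕ → (M → N) → Prop
  | 0, D => ∀ m, D m = 0
  | k + 1, D => ∀ b : B, IsOrd k (comm D b)

theorem isOrd_iff : ∀ (k : ℕ) (D : M → N), IsOrd B k D ↔
    ∀ (a : Fin k → B) (m : M), altSum D Finset.univ a m = 0 := by
  intro k
  induction k with
  | zero =>
    intro D
    simp only [IsOrd, altSum, Finset.univ_eq_empty, Finset.powerset_empty, Finset.sum_singleton,
      Finset.card_empty, pow_zero, Finset.prod_empty, one_smul, sdiff_self, Finset.bot_eq_empty]
    exact ⟨fun h _ m => h m, fun h m => h Fin.elim0 m⟩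
  | succ k ih =>
    intro D
    have key : ∀ (a : Fin (k + 1) → B) m,
        altSum D Finset.univ a m = altSum (comm D (a 0)) Finset.univ (a ∘ Fin.succ) m := by
      intro a m
      rw [show (Finset.univ : Finset (Fin (k + 1))) = insert 0 (Finset.univ.map ⟨Fin.succ, Fin.succ_injective k⟩) from by
        ext x; simp only [Finset.mem_univ, Finset.mem_insert, Finset.mem_map, Function.Embedding.coeFn_mk,
          true_and, true_iff]
        exact (Fin.eq_zero_or_eq_succ x).imp id fun ⟨j, hj⟩ => ⟨j, hj.symm⟩]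
      rw [altSum_insert _ (by simp [Fin.succ_ne_zero]), altSum_map]
      rfl
    refine ⟨fun h a m => ?_, fun h b => (ih _).mpr fun a m => ?_⟩
    · rw [key]; exact (ih _).mp (h (a 0)) _ _
    · have := h (Fin.cons b a) m
      rwa [key, Fin.cons_zero, show (Fin.cons b a : Fin (k + 1) → B) ∘ Fin.succ = a from funext fun i => by simp] at this

theorem IsOrd.succ : ∀ {k : ℕ} {D : M → N}, IsOrd B k D → IsOrd B (k + 1) D := by
  intro k
  induction k with
  | zero => intro D h b m; simp [comm, h (b • m), h m]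
  | succ k ih => intro D h b; exact ih (h b)

theorem IsOrd.mono {k l : ℕ} (hkl : k ≤ l) {D : M → N} (h : IsOrd B k D) : IsOrd B l D := by
  induction hkl with
  | refl => exact h
  | step _ ih => exact ih.succ

theorem IsOrd.add : ∀ {k : ℕ} {D D' : M → N}, IsOrd B k D → IsOrd B k D' → IsOrd B k fun m => D m + D' m := by
  intro k
  induction k with
  | zero => intro D D' h h' m; simp [h m, h' m]
  | succ k ih =>
    intro D D' h h' b
    rw [show comm (fun m => D m + D' m) b = fun m => comm D b m + comm D' b m from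
      funext fun m => by simp only [comm, smul_add]; abel]
    exact ih (h b) (h' b)

theorem comm_sub (D : M → N) (hD : ∀ x y, D (x - y) = D x - D y) (b : B) (x y : M) :
    comm D b (x - y) = comm D b x - comm D b y := by
  simp only [comm, smul_sub, hD]; abel

theorem IsOrd.comp : ∀ (k p q : ℕ), p + q = k → ∀ (D : M → N) (D' : N → K),
    (∀ x y, D' (x - y) = D' x - D' y) → IsOrd B (p + 1) D' → IsOrd B (q + 1) D → IsOrd B (k + 1) (D' ∘ D) := by
  intro k
  induction k with
  | zero =>
    intro p q hpq D D' hadd h' h b m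
    obtain ⟨rfl, rfl⟩ : p = 0 ∧ q = 0 := by omega
    show D' (D (b • m)) - b • D' (D m) = 0
    rw [show D (b • m) = b • D m from sub_eq_zero.mp (h b m)]
    exact h' b _
  | succ k ih =>
    intro p q hpq D D' hadd h' h b
    rw [show comm (D' ∘ D) b = fun m => (comm D' b ∘ D) m + (D' ∘ comm D b) m from funext fun m => by
      simp only [comm, Function.comp_apply, hadd]; abel]
    refine IsOrd.add ?_ ?_
    · obtain rfl | ⟨p', rfl⟩ : p = 0 ∨ ∃ p', p = p' + 1 := by
        cases p with
        | zero => exact Or.inl rfl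
        | succ p' => exact Or.inr ⟨p', rfl⟩
      · refine IsOrd.mono (Nat.zero_le _) ?_
        exact fun m => h' b (D m)
      · exact ih p' q (by omega) _ _ (comm_sub D' hadd b) (h' b) h
    · obtain rfl | ⟨q', rfl⟩ : q = 0 ∨ ∃ q', q = q' + 1 := by
        cases q with
        | zero => exact Or.inl rfl
        | succ q' => exact Or.inr ⟨q', rfl⟩
      · refine IsOrd.mono (Nat.zero_le _) ?_
        intro m
        show D' (comm D b m) = 0
        rw [show comm D b m = 0 from h b m]
        simpa using hadd 0 0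
      · exact ih p q' (by omega) _ _ hadd h' (h b)

end Comm

section Factor

variable {A B : Type u} [CommRing A] [CommRing B] [Algebra A B] {M N : Type u} [AddCommGroup M] [Module B M]
  [AddCommGroup N] [Module B N]

theorem prod_sub_eq_sum {k : ℕ} (a : Fin k → B) :
    (∏ i, ((1 : B) ⊗ₜ[A] a i - a i ⊗ₜ[A] (1 : B))) =
      ∑ H : Finset (Fin k), ((-1 : ℤ) ^ H.card) • ((∏ i ∈ H, a i) ⊗ₜ[A] (∏ i ∈ Hᶜ, a i)) := by
  rw [show (∏ i, ((1 : B) ⊗ₜ[A] a i - a i ⊗ₜ[A] (1 : B))) = ∏ i, (-(a i ⊗ₜ[A] (1 : B)) + (1 : B) ⊗ₜ[A] a i) from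
    Finset.prod_congr rfl fun i _ => by rw [neg_add_eq_sub]]
  rw [Finset.prod_add, Finset.powerset_univ]
  refine Finset.sum_congr rfl fun H _ => ?_
  rw [Finset.prod_neg, ← Finset.compl_eq_univ_sdiff, zsmul_eq_mul, Int.cast_pow, Int.cast_neg, Int.cast_one, mul_assoc]
  congr 1
  rw [show (∏ i ∈ H, a i ⊗ₜ[A] (1 : B)) = (∏ i ∈ H, a i) ⊗ₜ[A] (1 : B) from
      (map_prod (Algebra.TensorProduct.includeLeftRingHom : B →+* B ⊗[A] B) a H).symm,
    show (∏ i ∈ Hᶜ, (1 : B) ⊗ₜ[A] a i) = (1 : B) ⊗ₜ[A] (∏ i ∈ Hᶜ, a i) from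
      (map_prod (Algebra.TensorProduct.includeRight : B →ₐ[A] B ⊗[A] B) a Hᶜ).symm,
    Algebra.TensorProduct.tmul_mul_tmul, mul_one, one_mul]

/-- An operator with vanishing iterated commutators factors through the principal parts. -/
theorem exists_factor (n : ℕ) (D : M →+ N)
    (hA : ∀ (r : A) (m : M), D (algebraMap A B r • m) = algebraMap A B r • D m)
    (hsum : ∀ (a : Fin (n + 1) → B) (m : M),
      (∑ H : Finset (Fin (n + 1)), ((-1 : ℤ) ^ H.card) • ((∏ i ∈ H, a i) • D ((∏ i ∈ Hᶜ, a i) • m))) = 0) :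
    ∃ L : PP16.P n A B →+ (M →+ N),
      (∀ a b m, L (Ideal.Quotient.mk _ (a ⊗ₜ[A] b)) m = a • D (b • m)) ∧
      (∀ (q : PP16.P n A B) (b : B) m, L (q * Ideal.Quotient.mk _ ((1 : B) ⊗ₜ[A] b)) m = L q (b • m)) := by
  let F : B →+ B →+ (M →+ N) :=
    AddMonoidHom.mk' (fun a => AddMonoidHom.mk' (fun b => AddMonoidHom.mk' (fun m => a • D (b • m))
        fun x y => by simp only [smul_add, map_add])
      fun x y => AddMonoidHom.ext fun m => by simp [add_smul])
      fun x y => AddMonoidHom.ext fun b => AddMonoidHom.ext fun m => by simp [add_smul]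
  let L₀ : B ⊗[A] B →+ (M →+ N) := TensorProduct.liftAddHom F fun r a b => AddMonoidHom.ext fun m => by
    show (r • a) • D (b • m) = a • D ((r • b) • m)
    rw [Algebra.smul_def, Algebra.smul_def, mul_smul (algebraMap A B r) b m, hA, mul_smul, smul_comm]
  have hL₀ : ∀ a b m, L₀ (a ⊗ₜ[A] b) m = a • D (b • m) := fun a b m => rfl
  have hR : ∀ (x : B ⊗[A] B) (b : B) m, L₀ (x * ((1 : B) ⊗ₜ[A] b)) m = L₀ x (b • m) := by
    intro x b m
    induction x using TensorProduct.induction_on with
    | zero => simp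
    | add x y hx hy => simp only [add_mul, map_add, AddMonoidHom.add_apply, hx, hy]
    | tmul a c => rw [Algebra.TensorProduct.tmul_mul_tmul, mul_one, hL₀, hL₀, mul_smul]
  have hLft : ∀ (x : B ⊗[A] B) (c : B) m, L₀ ((c ⊗ₜ[A] (1 : B)) * x) m = c • L₀ x m := by
    intro x b m
    induction x using TensorProduct.induction_on with
    | zero => simp
    | add x y hx hy => simp only [mul_add, map_add, AddMonoidHom.add_apply, hx, hy, smul_add]
    | tmul a c => rw [Algebra.TensorProduct.tmul_mul_tmul, one_mul, hL₀, hL₀, mul_smul]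
  let K : Ideal (B ⊗[A] B) :=
    { carrier := {x | ∀ w, L₀ (w * x) = 0}
      add_mem' := fun {x y} hx hy w => by rw [mul_add, map_add, hx w, hy w, add_zero]
      zero_mem' := fun w => by rw [mul_zero, map_zero]
      smul_mem' := fun c x hx w => by rw [smul_eq_mul, ← mul_assoc]; exact hx _ }
  have hK : (KaehlerDifferential.ideal A B) ^ (n + 1) ≤ K := by
    rw [← KaehlerDifferential.span_range_eq_ideal, Submodule.span_pow, Submodule.span_le]
    intro x hx
    obtain ⟨g, rfl⟩ := Set.mem_pow.mp hx
    intro w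
    rw [List.prod_ofFn]
    choose a ha using fun i => (g i).2
    rw [Finset.prod_congr rfl fun i _ => (ha i).symm]
    refine AddMonoidHom.ext fun m => ?_
    rw [prod_sub_eq_sum]
    induction w using TensorProduct.induction_on generalizing m with
    | zero => simp
    | add w w' hw hw' => simp only [add_mul, map_add, AddMonoidHom.add_apply, hw, hw', AddMonoidHom.zero_apply, add_zero]
    | tmul c d =>
      rw [show c ⊗ₜ[A] d = (c ⊗ₜ[A] (1 : B)) * ((1 : B) ⊗ₜ[A] d) from by
          rw [Algebra.TensorProduct.tmul_mul_tmul, mul_one, one_mul],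
        mul_assoc, hLft, mul_comm, hR]
      simp only [map_sum, map_zsmul, AddMonoidHom.finsetSum_apply, AddMonoidHom.zsmul_apply, hL₀, hsum,
        smul_zero, AddMonoidHom.zero_apply]
  have hker : ((KaehlerDifferential.ideal A B) ^ (n + 1)).toAddSubgroup ≤ L₀.ker := fun x hx => by
    have := hK hx 1
    rw [one_mul] at this
    exact this
  let L : PP16.P n A B →+ (M →+ N) := QuotientAddGroup.lift _ L₀ hker
  refine ⟨L, fun a b m => hL₀ a b m, fun q b m => ?_⟩
  obtain ⟨x, rfl⟩ := Ideal.Quotient.mk_surjective q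
  rw [← map_mul]
  exact hR x b m

end Factor

end Groth.Agent.PrinDiff
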