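import Groth.Agent.ModStalk.PrinPartSect
import Groth.Agent.PrinDiff.Operator

/-! The neighbourhood of the diagonal over affine opens, as a quotient of `B ⊗ B`. -/

set_option autoImplicit false
set_option linter.style.haveILetI false
universe u

open CategoryTheory CategoryTheory.Limits AlgebraicGeometry Opposite TopologicalSpace
open scoped TensorProduct

namespace Groth.Agent.PrinDiff

open Groth.Agent.ModStalk

variable {X S : Scheme.{u}} (f : X ⟶ S)

theorem exists_nbhdSectionsMap (n : ℕ) {V : S.Opens} (hV : IsAffineOpen V) {U : X.Opens}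
    (hU : IsAffineOpen U) (h : U ≤ f ⁻¹ᵁ V) :
    letI := (f.appLE V U h).hom.toAlgebra
    IsAffineOpen (PrinPart.pr1 f n ⁻¹ᵁ U) ∧
    ∃ σ : (Γ(X, U) ⊗[Γ(S, V)] Γ(X, U)) →+* Γ(PrinPart.nbhd f n, PrinPart.pr1 f n ⁻¹ᵁ U),
      Function.Surjective σ ∧
      RingHom.ker σ = KaehlerDifferential.ideal Γ(S, V) Γ(X, U) ^ (n + 1) ∧
      ∀ a b, σ (a ⊗ₜ b) = (PrinPart.pr1 f n).app U a *
        (PrinPart.pr2 f n).appLE U (PrinPart.pr1 f n ⁻¹ᵁ U) (PrinPart.preimage_pr1 f n U).le b := by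
  letI := (f.appLE V U h).hom.toAlgebra
  let Δ := pullback.diagonal f
  let W := OmegaSh.diagNbhd f U
  let C := Δ.coborderRange
  let W' : (C : Scheme.{u}).Opens := C.ι ⁻¹ᵁ W
  have hW : IsAffineOpen W := isAffineOpen_diagNbhd f hV hU h
  have hWC : W ≤ C.ι.opensRange := by
    rw [Scheme.Opens.opensRange_ι]; exact le_coborderRange_of_affine f hV hU h
  have hW' : IsAffineOpen W' := hW.preimage_of_isOpenImmersion _ hWC
  let ι := PrinPart.infNbhdι (PrinPart.diagCl f) n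
  let T := PrinPart.pr1 f n ⁻¹ᵁ U
  have hT : T = ι ⁻¹ᵁ W' := by
    refine le_antisymm (fun z hz => ⟨hz, ?_⟩) fun z hz => hz.1
    exact (PrinPart.preimage_pr1 f n U).le hz
  haveI : IsClosedImmersion ι := inferInstanceAs (IsClosedImmersion (Scheme.IdealSheafData.subschemeι _))
  have hTaff : IsAffineOpen T := hT ▸ hW'.preimage ι
  -- the quotient map on sections
  let σ₀ : Γ(pullback f f, W) →+* Γ(PrinPart.nbhd f n, T) :=
    ((C.ι.app W ≫ ι.app W' ≫ (PrinPart.nbhd f n).presheaf.map (homOfLE hT.le).op)).hom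
  haveI : IsIso (homOfLE hT.le) := ⟨homOfLE hT.ge, Subsingleton.elim _ _, Subsingleton.elim _ _⟩
  have hres := ConcreteCategory.bijective_of_isIso ((PrinPart.nbhd f n).presheaf.map (homOfLE hT.le).op)
  haveI : IsIso (C.ι.app W) := C.ι.isIso_app W hWC
  have hιW := ConcreteCategory.bijective_of_isIso (C.ι.app W)
  have hσ₀ : Function.Surjective σ₀ := by
    intro t
    obtain ⟨t1, rfl⟩ := hres.2 t
    obtain ⟨t2, rfl⟩ := Scheme.IdealSheafData.subschemeι_app_surjective _ ⟨W', hW'⟩ t1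
    obtain ⟨t3, rfl⟩ := hιW.2 t2
    exact ⟨t3, rfl⟩
  haveI : QuasiCompact (PrinPart.diagCl f) := inferInstance
  let J : Ideal Γ(pullback f f, W) := RingHom.ker (Δ.appLE W U (OmegaSh.le_preimage_diagNbhd f U)).hom
  have hJ : ∀ x, x ∈ J ↔ (PrinPart.diagCl f).app W' (C.ι.app W x) = 0 := by
    intro x
    have hpre : PrinPart.diagCl f ⁻¹ᵁ W' = U := by
      show PrinPart.diagCl f ⁻¹ᵁ (C.ι ⁻¹ᵁ W) = U
      rw [← Scheme.Hom.comp_preimage, (pullback.diagonal f).liftCoborder_ι]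
      exact le_antisymm (OmegaSh.diagonal_preimage_le f le_rfl) (OmegaSh.le_preimage_diagNbhd f U)
    haveI : IsIso (homOfLE hpre.ge) := ⟨homOfLE hpre.le, Subsingleton.elim _ _, Subsingleton.elim _ _⟩
    have e : Δ.appLE W U (OmegaSh.le_preimage_diagNbhd f U) x =
        X.presheaf.map (homOfLE hpre.ge).op ((PrinPart.diagCl f).app W' (C.ι.app W x)) := by
      show _ = (C.ι.app W ≫ (PrinPart.diagCl f).app W' ≫ X.presheaf.map (homOfLE hpre.ge).op) x
      rw [show (PrinPart.diagCl f).app W' ≫ X.presheaf.map (homOfLE hpre.ge).op =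
        (PrinPart.diagCl f).appLE W' U hpre.ge from rfl, Scheme.Hom.app_eq_appLE, Scheme.Hom.appLE_comp_appLE]
      congr 3
      exact ((pullback.diagonal f).liftCoborder_ι).symm
    rw [RingHom.mem_ker]
    show Δ.appLE W U _ x = 0 ↔ _
    rw [e]
    exact map_eq_zero_iff _ (ConcreteCategory.bijective_of_isIso (X.presheaf.map (homOfLE hpre.ge).op)).1
  have hσ₀ker : RingHom.ker σ₀ = J ^ (n + 1) := by
    ext x
    have h1 : x ∈ RingHom.ker σ₀ ↔ C.ι.app W x ∈ ((PrinPart.diagCl f).ker ^ (n + 1)).ideal ⟨W', hW'⟩ := by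
      rw [← Scheme.IdealSheafData.ker_subschemeι_app, RingHom.mem_ker, RingHom.mem_ker]
      exact map_eq_zero_iff _ hres.1
    let e := (asIso (C.ι.app W)).commRingCatIsoToRingEquiv
    have hJe : J = ((PrinPart.diagCl f).ker.ideal ⟨W', hW'⟩).comap e.toRingHom := by
      ext y
      rw [Ideal.mem_comap, hJ y, Scheme.Hom.ker_apply, RingHom.mem_ker]
      rfl
    rw [h1, Scheme.IdealSheafData.ideal_pow, Pi.pow_apply, hJe]
    rw [show ((PrinPart.diagCl f).ker.ideal ⟨W', hW'⟩).comap e.toRingHom =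
      ((PrinPart.diagCl f).ker.ideal ⟨W', hW'⟩).map e.symm.toRingHom from (Ideal.map_symm e).symm,
      ← Ideal.map_pow]
    refine Iff.trans ?_ (Ideal.mem_map_iff_of_surjective (e.symm.toRingHom) e.symm.surjective).symm
    exact ⟨fun hx => ⟨e x, hx, e.symm_apply_apply x⟩, fun ⟨y, hy, hyx⟩ => by
      rw [← hyx]; show e (e.symm y) ∈ _; rw [e.apply_symm_apply]; exact hy⟩
  have hT2 : T ≤ PrinPart.pr2 f n ⁻¹ᵁ U := (PrinPart.preimage_pr1 f n U).le
  -- the tensor product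
  let eW := ((CommRingCat.isPushout_tensorProduct Γ(S, V) Γ(X, U) Γ(X, U)).isoIsPushout _ _
    (isPushout_diagNbhd f hV hU h))
  let φ : (Γ(X, U) ⊗[Γ(S, V)] Γ(X, U)) ≃+* Γ(pullback f f, W) := eW.commRingCatIsoToRingEquiv
  have hl : ∀ a : Γ(X, U), φ (a ⊗ₜ 1) = (pullback.fst f f).appLE U W inf_le_left a := fun a =>
    ConcreteCategory.congr_hom (IsPushout.inl_isoIsPushout_hom _ _
      (CommRingCat.isPushout_tensorProduct Γ(S, V) Γ(X, U) Γ(X, U)) (isPushout_diagNbhd f hV hU h)) a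
  have hr : ∀ a : Γ(X, U), φ (1 ⊗ₜ a) = (pullback.snd f f).appLE U W inf_le_right a := fun a =>
    ConcreteCategory.congr_hom (IsPushout.inr_isoIsPushout_hom _ _
      (CommRingCat.isPushout_tensorProduct Γ(S, V) Γ(X, U) Γ(X, U)) (isPushout_diagNbhd f hV hU h)) a
  have hμ : ∀ t, Δ.appLE W U (OmegaSh.le_preimage_diagNbhd f U) (φ t) =
      Algebra.TensorProduct.lmul' (S := Γ(X, U)) Γ(S, V) t := by
    intro t
    induction t using TensorProduct.induction_on with
    | zero => simp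
    | add a b ha hb => simp only [map_add, ha, hb]
    | tmul a b =>
      rw [Algebra.TensorProduct.lmul'_apply_tmul, show a ⊗ₜ[Γ(S, V)] b = (a ⊗ₜ 1) * (1 ⊗ₜ b) from by
        rw [Algebra.TensorProduct.tmul_mul_tmul, mul_one, one_mul], map_mul, map_mul, hl, hr]
      exact congrArg₂ (· * ·) (diagonal_appLE_retraction f _ (pullback.diagonal_fst f) U inf_le_left a)
        (diagonal_appLE_retraction f _ (pullback.diagonal_snd f) U inf_le_right b)
  have hJφ : J = (KaehlerDifferential.ideal Γ(S, V) Γ(X, U)).map φ.toRingHom := by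
    ext y
    rw [RingHom.mem_ker, Ideal.mem_map_iff_of_surjective φ.toRingHom φ.surjective]
    refine ⟨fun hy => ⟨φ.symm y, ?_, φ.apply_symm_apply y⟩, ?_⟩
    · show Algebra.TensorProduct.lmul' (S := Γ(X, U)) Γ(S, V) (φ.symm y) = 0
      rw [← hμ, φ.apply_symm_apply]
      exact hy
    · rintro ⟨s, hs, rfl⟩
      exact (hμ s).trans hs
  have hσp : ∀ (p : pullback f f ⟶ X) (h' : W ≤ p ⁻¹ᵁ U) (e : T ≤ (PrinPart.nbhdι f n ≫ p) ⁻¹ᵁ U) (c : Γ(X, U)),
      σ₀ (p.appLE U W h' c) = (PrinPart.nbhdι f n ≫ p).appLE U T e c := by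
    intro p h' e c
    show (p.appLE U W h' ≫ C.ι.app W ≫ ι.app W' ≫ (PrinPart.nbhd f n).presheaf.map (homOfLE hT.le).op) c = _
    rw [show ι.app W' ≫ (PrinPart.nbhd f n).presheaf.map (homOfLE hT.le).op = ι.appLE W' T hT.le from rfl,
      Scheme.Hom.app_eq_appLE C.ι, Scheme.Hom.appLE_comp_appLE, Scheme.Hom.appLE_comp_appLE]
    rfl
  refine ⟨hTaff, σ₀.comp φ.toRingHom, hσ₀.comp φ.surjective, ?_, fun a b => ?_⟩
  · ext t
    rw [RingHom.mem_ker, RingHom.comp_apply, ← RingHom.mem_ker, hσ₀ker, hJφ, ← Ideal.map_pow,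
      Ideal.mem_map_iff_of_surjective φ.toRingHom φ.surjective]
    exact ⟨fun ⟨s, hs, hst⟩ => φ.injective hst ▸ hs, fun ht => ⟨t, ht, rfl⟩⟩
  · show σ₀ (φ (a ⊗ₜ b)) = _
    rw [show a ⊗ₜ[Γ(S, V)] b = (a ⊗ₜ 1) * (1 ⊗ₜ b) from by
        rw [Algebra.TensorProduct.tmul_mul_tmul, mul_one, one_mul], map_mul, map_mul, hl, hr,
      hσp _ inf_le_left le_rfl, hσp _ inf_le_right hT2]
    rw [Scheme.Hom.app_eq_appLE]
    rfl

end Groth.Agent.PrinDiff
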